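import Cfsg.Agent.CharDeep.CA.AbInvolMain
import Mathlib.GroupTheory.Sylow

/-!
# Centralizers forming an antichain

If no centralizer of a nonidentity element properly contains another one, then the
centralizers of involutions are abelian.
-/

set_option autoImplicit false

namespace Cfsg.Agent.Ito7

variable {G : Type*} [Group G]

/-- The centralizer of an element. -/
abbrev cent (x : G) : Subgroup G := Subgroup.centralizer ({x} : Set G)

theorem mem_cent {x g : G} : g ∈ cent x ↔ Commute g x := by
  rw [Subgroup.mem_centralizer_singleton_iff]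
  exact ⟨fun h => h, fun h => h⟩

theorem self_mem_cent (x : G) : x ∈ cent x := mem_cent.2 (Commute.refl x)

theorem cent_le_pow (x : G) (k : ℕ) : cent x ≤ cent (x ^ k) := fun _ hg =>
  mem_cent.2 ((mem_cent.1 hg).pow_right k)

/-- For commuting elements of coprime order, `C(ab) = C(a) ∩ C(b)`. -/
theorem cent_mul [Finite G] {a b : G} (hc : Commute a b) (hcop : (orderOf a).Coprime (orderOf b)) :
    cent (a * b) = cent a ⊓ cent b := by
  refine le_antisymm (fun g hg => ?_) fun g hg =>
    mem_cent.2 ((mem_cent.1 hg.1).mul_right (mem_cent.1 hg.2))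
  have hg' := mem_cent.1 hg
  have key : ∀ x y : G, Commute x y → (orderOf x).Coprime (orderOf y) → Commute g (x * y) →
      Commute g x := by
    intro x y hxy hco hgxy
    obtain ⟨k, hk⟩ := exists_pow_eq_self_of_coprime hco.symm
    have h := hgxy.pow_right (orderOf y)
    rw [hxy.mul_pow, pow_orderOf_eq_one, mul_one] at h
    simpa only [hk] using h.pow_right k
  refine ⟨mem_cent.2 (key a b hc hcop hg'), mem_cent.2 (key b a hc.symm hcop.symm ?_)⟩
  rwa [← hc.eq]

theorem mul_ne_one_of_coprime {a b : G} (ha : a ≠ 1) (hcop : (orderOf a).Coprime (orderOf b)) :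
    a * b ≠ 1 := by
  intro h
  have e : b = a⁻¹ := eq_inv_of_mul_eq_one_right h
  rw [e, orderOf_inv, Nat.coprime_self, orderOf_eq_one_iff] at hcop
  exact ha hcop

/-- No centralizer of a nonidentity element properly contains another one. -/
def Antichain (G : Type*) [Group G] : Prop :=
  ∀ x y : G, x ≠ 1 → y ≠ 1 → cent x ≤ cent y → cent x = cent y

variable [Finite G]

theorem cent_le_of_coprime (hA : Antichain G) {a b : G} (ha : a ≠ 1) (hc : Commute a b)
    (hcop : (orderOf a).Coprime (orderOf b)) : cent a ≤ cent b := by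
  have h := cent_mul hc hcop
  have h' := hA (a * b) a (mul_ne_one_of_coprime ha hcop) ha (h.le.trans inf_le_left)
  rw [h, inf_eq_left] at h'
  exact h'

theorem exists_involution_power {p : ℕ} [Fact p.Prime] {v : G} (hv : v ≠ 1)
    (hvp : ∃ k : ℕ, orderOf v = p ^ k) : ∃ k : ℕ, orderOf (v ^ k) = p := by
  obtain ⟨k, hk⟩ := hvp
  have hk0 : k ≠ 0 := fun h => hv (orderOf_eq_one_iff.1 (by rw [hk, h, pow_zero]))
  obtain ⟨j, rfl⟩ := Nat.exists_eq_succ_of_ne_zero hk0
  refine ⟨p ^ j, ?_⟩
  rw [orderOf_pow' v (pow_ne_zero _ (Fact.out : p.Prime).ne_zero), hk]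
  rw [Nat.gcd_eq_right ⟨p, by rw [pow_succ]⟩, pow_succ,
    Nat.mul_div_cancel_left _ (pow_pos (Fact.out : p.Prime).pos _)]

theorem mul_self_of_two {s : G} (hs : orderOf s = 2) : s * s = 1 := by
  rw [← pow_two, ← hs, pow_orderOf_eq_one]

/-- Involutions of a `2`-group commute. -/
theorem involutions_commute (hA : Antichain G) {S : Subgroup G} (hS : IsPGroup 2 S) {s d : G}
    (hs : s ∈ S) (hd : d ∈ S) (hs2 : orderOf s = 2) (hd2 : orderOf d = 2) : Commute s d := by
  haveI := Fact.mk Nat.prime_two
  have hss := mul_self_of_two hs2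
  have hdd := mul_self_of_two hd2
  have hsi : s⁻¹ = s := inv_eq_of_mul_eq_one_right hss
  have hdi : d⁻¹ = d := inv_eq_of_mul_eq_one_right hdd
  by_cases hv : s * d = 1
  · rw [eq_inv_of_mul_eq_one_right hv, hsi]
  obtain ⟨k, hk⟩ := (IsPGroup.iff_orderOf.1 hS) ⟨s * d, mul_mem hs hd⟩
  rw [Subgroup.orderOf_mk] at hk
  obtain ⟨j, hj⟩ := exists_involution_power (p := 2) hv ⟨k, hk⟩
  have hj1 : (s * d) ^ j ≠ 1 := fun h => by rw [h, orderOf_one] at hj; norm_num at hj
  have heq := hA _ _ hv hj1 (cent_le_pow (s * d) j)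
  have hconj : s * (s * d) * s⁻¹ = (s * d)⁻¹ := by
    rw [mul_inv_rev, hsi, hdi, ← mul_assoc s s d, hss, one_mul]
  have hinv : ((s * d) ^ j)⁻¹ = (s * d) ^ j :=
    inv_eq_of_mul_eq_one_right (mul_self_of_two hj)
  have hsj : Commute s ((s * d) ^ j) := by
    have h : s * (s * d) ^ j * s⁻¹ = (s * d) ^ j := by
      rw [← conj_pow, hconj, inv_pow, hinv]
    exact mul_inv_eq_iff_eq_mul.1 h
  have hm : s ∈ cent (s * d) := heq ▸ mem_cent.2 hsj
  have h := (mem_cent.1 hm).eq
  rw [← mul_assoc, hss, one_mul] at h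
  show s * d = d * s
  calc s * d = s * (s * d * s) := by rw [← h]
    _ = d * s := by rw [mul_assoc s d s, ← mul_assoc s s (d * s), hss, one_mul]

/-- The Sylow `2`-subgroups are abelian. -/
theorem commute_of_mem_two (hA : Antichain G) {S : Subgroup G} (hS : IsPGroup 2 S) {a b : G}
    (ha : a ∈ S) (hb : b ∈ S) : Commute a b := by
  haveI := Fact.mk Nat.prime_two
  have hpow : ∀ v ∈ S, v ≠ 1 → ∃ w ∈ S, orderOf w = 2 ∧ cent v = cent w := by
    intro v hv hv1
    obtain ⟨k, hk⟩ := (IsPGroup.iff_orderOf.1 hS) ⟨v, hv⟩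
    rw [Subgroup.orderOf_mk] at hk
    obtain ⟨j, hj⟩ := exists_involution_power (p := 2) hv1 ⟨k, hk⟩
    have hj1 : v ^ j ≠ 1 := fun h => by rw [h, orderOf_one] at hj; norm_num at hj
    exact ⟨v ^ j, pow_mem hv j, hj, hA _ _ hv1 hj1 (cent_le_pow v j)⟩
  -- involutions are central in `S`
  have hinv : ∀ u ∈ S, orderOf u = 2 → ∀ v ∈ S, Commute u v := by
    intro u hu hu2 v hv
    by_cases hv1 : v = 1
    · rw [hv1]; exact Commute.one_right u
    obtain ⟨w, hw, hw2, he⟩ := hpow v hv hv1
    exact mem_cent.1 (he ▸ mem_cent.2 (involutions_commute hA hS hu hw hu2 hw2))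
  by_cases ha1 : a = 1
  · rw [ha1]; exact Commute.one_left b
  obtain ⟨w, hw, hw2, he⟩ := hpow a ha ha1
  exact (mem_cent.1 (he ▸ mem_cent.2 (hinv w hw hw2 b hb).symm)).symm

/-- An antichain of centralizers forces abelian centralizers of involutions. -/
theorem abInv_of_antichain (hA : Antichain G) : CharDeep.CA.AbInv G := by
  haveI := Fact.mk Nat.prime_two
  intro t ht ht1 a ha b hb
  have ht2 : orderOf t = 2 := orderOf_eq_prime (by rw [pow_two, ht]) ht1
  have hamem : a ∈ cent t := mem_cent.2 (CharDeep.CA.mem_cent.1 ha)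
  have hbmem : b ∈ cent t := mem_cent.2 (CharDeep.CA.mem_cent.1 hb)
  -- odd order elements of `C(t)` are central in it
  have hodd : ∀ y ∈ cent t, (orderOf y).Coprime 2 → cent t ≤ cent y := fun y hy hco =>
    cent_le_of_coprime hA ht1 (mem_cent.1 hy).symm (by rw [ht2]; exact hco.symm)
  by_cases hex : ∃ y ∈ cent t, y ≠ 1 ∧ (orderOf y).Coprime 2
  · obtain ⟨y, hy, hy1, hyc⟩ := hex
    have he := hA _ _ ht1 hy1 (hodd y hy hyc)
    -- prime power elements are central in `C(t)`
    have hall : ∀ k : ℕ, ∀ c : G, orderOf c = k → c ∈ cent t → ∀ d ∈ cent t, Commute c d := by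
      intro k
      induction k using Nat.recOnPosPrimePosCoprime with
      | zero => intro c hc; exact absurd hc (orderOf_pos c).ne'
      | one =>
        intro c hc _ d _
        rw [orderOf_eq_one_iff.1 hc]
        exact Commute.one_left d
      | prime_pow p n hp hn =>
        intro c hc hct d hd
        by_cases hp2 : p = 2
        · subst hp2
          have hcy : cent y ≤ cent c := cent_le_of_coprime hA hy1
            (mem_cent.1 (he ▸ hct)).symm (by rw [hc]; exact hyc.pow_right n)
          exact (mem_cent.1 (hcy (he ▸ hd))).symm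
        · exact (mem_cent.1 (hodd c hct (by
            rw [hc]; exact Nat.Coprime.pow_left _
              ((Nat.coprime_primes hp Nat.prime_two).2 hp2)) hd)).symm
      | coprime m n hm hn hmn ihm ihn =>
        intro c hc hct d hd
        obtain ⟨i, j, hij⟩ : ∃ i j : ℕ, m * i + n * j ≡ 1 [MOD m * n] := by
          obtain ⟨i, hi⟩ := Nat.exists_mul_mod_eq_one_of_coprime hmn hn
          obtain ⟨j, hj⟩ := Nat.exists_mul_mod_eq_one_of_coprime hmn.symm hm
          refine ⟨i, j, (Nat.modEq_and_modEq_iff_modEq_mul hmn).1 ⟨?_, ?_⟩⟩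
          · show (m * i + n * j) % m = 1 % m
            rw [Nat.mul_add_mod, hj.2, Nat.mod_eq_of_lt hm]
          · show (m * i + n * j) % n = 1 % n
            rw [Nat.add_mul_mod_self_left, hi.2, Nat.mod_eq_of_lt hn]
        have hc' : c = (c ^ m) ^ i * (c ^ n) ^ j := by
          rw [← pow_mul, ← pow_mul, ← pow_add]
          conv_lhs => rw [← pow_one c]
          exact (pow_eq_pow_iff_modEq.2 (by rw [hc]; exact hij.symm))
        have h1 : orderOf (c ^ m) = n := by
          rw [orderOf_pow' _ (by omega), hc, Nat.gcd_eq_right (dvd_mul_right m n),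
            Nat.mul_div_cancel_left _ (by omega)]
        have h2 : orderOf (c ^ n) = m := by
          rw [orderOf_pow' _ (by omega), hc, Nat.gcd_eq_right (dvd_mul_left n m),
            Nat.mul_div_cancel _ (by omega)]
        rw [hc']
        exact ((ihn _ h1 (pow_mem hct m) d hd).pow_left i).mul_left
          ((ihm _ h2 (pow_mem hct n) d hd).pow_left j)
    exact hall _ a rfl hamem b hbmem
  · push Not at hex
    have hp : IsPGroup 2 (cent t) := by
      intro x
      obtain ⟨k, m, hm, hk⟩ := Nat.exists_eq_two_pow_mul_odd (orderOf_pos x).ne'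
      refine ⟨k, ?_⟩
      by_contra hne
      have ho : orderOf (x ^ 2 ^ k) = m := by
        rw [orderOf_pow' _ (pow_ne_zero _ two_ne_zero), hk, Nat.gcd_eq_right (dvd_mul_right _ _),
          Nat.mul_div_cancel_left _ (pow_pos two_pos _)]
      exact hex ((x ^ 2 ^ k : cent t) : G) (SetLike.coe_mem _) (fun h => hne (Subtype.ext h))
        (by rw [Subgroup.orderOf_coe, ho]; exact hm.coprime_two_right)
    exact commute_of_mem_two hA hp hamem hbmem

end Cfsg.Agent.Ito7
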