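import Cfsg.Agent.Ito7.Perm
import Cfsg.Agent.Lib.Solvable.System
import Cfsg.Agent.Lib.Frobenius.Kernel

/-!
# Three class sizes and two properly nested centralizers

In a non-abelian simple group with exactly three nontrivial class sizes no centralizer properly
contains another one.
-/

set_option autoImplicit false

open scoped Pointwise

namespace Cfsg.Agent.Ito7

universe u

variable {G : Type u} [Group G] [Finite G]

theorem index_cent_conj (g x : G) : (cent (g * x * g⁻¹)).index = (cent x).index := by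
  have e : cent (g * x * g⁻¹) = (cent x).map (MulAut.conj g).toMonoidHom := by
    ext y
    rw [Subgroup.mem_map_equiv, mem_cent, mem_cent, MulAut.conj_symm_apply]
    refine Iff.trans ?_ (Commute.conj_iff g)
    rw [show g * (g⁻¹ * y * g) * g⁻¹ = y by group]
  rw [e]
  exact Subgroup.index_map_equiv (H := cent x) (MulAut.conj g)

theorem exists_prime_power_one {x : G} (hx : x ≠ 1) :
    ∃ (p k : ℕ), p.Prime ∧ orderOf (x ^ k) = p := by
  obtain ⟨p, hp, hd⟩ := Nat.exists_prime_and_dvd (n := orderOf x)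
    (fun h => hx (orderOf_eq_one_iff.1 h))
  obtain ⟨e, he⟩ := hd
  have h0 := orderOf_pos x
  have he0 : e ≠ 0 := by rintro rfl; rw [mul_zero] at he; omega
  exact ⟨p, e, hp, by rw [orderOf_pow' _ he0, he, Nat.gcd_eq_right (dvd_mul_left e p),
    Nat.mul_div_cancel _ (Nat.pos_of_ne_zero he0)]⟩

theorem prime_dvd_card {x : G} {p : ℕ} (hx : orderOf x = p) (H : Subgroup G) (hm : x ∈ H) :
    p ∣ Nat.card H := hx ▸ H.orderOf_dvd_natCard hm

theorem ne_one_of_order {x : G} {p : ℕ} (hp : p.Prime) (hx : orderOf x = p) : x ≠ 1 := fun h => by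
  rw [h, orderOf_one] at hx
  exact hp.one_lt.ne hx

theorem center_eq_bot [IsSimpleGroup G] (hnc : ¬ IsMulCommutative G) :
    Subgroup.center G = ⊥ := by
  rcases Subgroup.Normal.eq_bot_or_eq_top (inferInstance : (Subgroup.center G).Normal) with h | h
  · exact h
  · exact absurd ⟨⟨fun a b => (Subgroup.mem_center_iff.1 (h ▸ Subgroup.mem_top b) a)⟩⟩ hnc

theorem index_ne_one [IsSimpleGroup G] (hnc : ¬ IsMulCommutative G) {x : G} (hx : x ≠ 1) :
    (cent x).index ≠ 1 := fun h => hx (by
  have hc : x ∈ Subgroup.center G := Subgroup.mem_center_iff.2 fun g =>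
    (mem_cent.1 ((Subgroup.index_eq_one.1 h).symm ▸ Subgroup.mem_top g)).eq
  rwa [center_eq_bot hnc, Subgroup.mem_bot] at hc)

theorem not_prime_card [IsSimpleGroup G] (hnc : ¬ IsMulCommutative G) :
    ¬ (Nat.card G).Prime := fun h => hnc (by
  haveI := Fact.mk h
  haveI : IsCyclic G := isCyclic_of_prime_card rfl
  exact ⟨⟨fun a b => IsCyclic.commGroup.mul_comm a b⟩⟩)

theorem index_not_prime_pow [IsSimpleGroup G] (hnc : ¬ IsMulCommutative G) {x : G} (hx : x ≠ 1)
    {p k : ℕ} (hp : p.Prime) : (cent x).index ≠ p ^ k := fun h =>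
  not_prime_card hnc (CharCore.prime_card_of_prime_power_class hp hx h)

theorem exists_second_prime {n p : ℕ} (hn : n ≠ 0) (h : ∀ k, n ≠ p ^ k) :
    ∃ q, q.Prime ∧ q ∣ n ∧ q ≠ p := by
  by_contra hc
  push Not at hc
  exact h _ (Nat.eq_prime_pow_of_unique_prime_dvd hn fun {d} hd hdn => hc d hd hdn)

theorem exists_central_order {p : ℕ} [Fact p.Prime] {x : G} (hx : orderOf x = p) :
    ∃ z : G, z ≠ 1 ∧ ¬ p ∣ (cent z).index ∧ Commute x z := by
  have hz : IsPGroup p (Subgroup.zpowers x) :=
    IsPGroup.of_card (n := 1) (by rw [Nat.card_zpowers, hx, pow_one])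
  obtain ⟨S, hS⟩ := hz.exists_le_sylow
  have hxS : x ∈ (S : Subgroup G) := hS (Subgroup.mem_zpowers x)
  haveI : Nontrivial S := ⟨⟨x, hxS⟩, 1, fun e =>
    ne_one_of_order (Fact.out : p.Prime) hx (congrArg Subtype.val e)⟩
  haveI := S.2.center_nontrivial
  obtain ⟨⟨⟨z, hzS⟩, hzc⟩, hz1⟩ := exists_ne (1 : Subgroup.center S)
  have hle : (S : Subgroup G) ≤ cent z := fun s hs =>
    mem_cent.2 (congrArg Subtype.val (Subgroup.mem_center_iff.1 hzc ⟨s, hs⟩))
  exact ⟨z, fun h => hz1 (Subtype.ext (Subtype.ext h)),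
    fun h => S.not_dvd_index (h.trans (Subgroup.index_dvd_of_le hle)), mem_cent.1 (hle hxS)⟩

/-- The class sizes and the nesting. -/
structure Nested (G : Type u) [Group G] (n1 n2 n3 : ℕ) : Prop where
  cases : ∀ g : G, g ≠ 1 → (cent g).index = n1 ∨ (cent g).index = n2 ∨ (cent g).index = n3
  ne12 : n1 ≠ n2
  ne13 : n1 ≠ n3
  ne23 : n2 ≠ n3
  ex3 : ∃ g : G, g ≠ 1 ∧ (cent g).index = n3
  chain : ∃ x y : G, x ≠ 1 ∧ y ≠ 1 ∧ cent x ≤ cent y ∧
    (cent x).index = n1 ∧ (cent y).index = n2

namespace Nested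

variable [IsSimpleGroup G] {n1 n2 n3 : ℕ} (H : Nested G n1 n2 n3)
  (hnc : ¬ IsMulCommutative G)

include H

theorem dvd21 : n2 ∣ n1 := by
  obtain ⟨x, y, -, -, hle, hx, hy⟩ := H.chain
  rw [← hx, ← hy]
  exact Subgroup.index_dvd_of_le hle

include hnc

theorem coprime23 : Nat.Coprime n2 n3 := by
  obtain ⟨x, y, -, -, -, -, hy⟩ := H.chain
  refine Nat.coprime_of_dvd' fun p hp h2 h3 => ?_
  exfalso
  haveI := Fact.mk hp
  obtain ⟨u, hu⟩ := exists_prime_orderOf_dvd_card' (G := G) p
    ((hy ▸ h2).trans (Subgroup.index_dvd_card _))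
  obtain ⟨z, hz1, hzi, -⟩ := exists_central_order hu
  rcases H.cases z hz1 with e | e | e <;> rw [e] at hzi
  exacts [hzi (h2.trans H.dvd21), hzi h2, hzi h3]

theorem ne_one2 : n2 ≠ 1 := by
  obtain ⟨x, y, -, hy1, -, -, hy⟩ := H.chain
  exact hy ▸ index_ne_one hnc hy1

theorem ne_one3 : n3 ≠ 1 := by
  obtain ⟨g, hg1, hg⟩ := H.ex3
  exact hg ▸ index_ne_one hnc hg1

theorem not23 : ¬ n2 ∣ n3 := fun h =>
  H.ne_one2 hnc (Nat.Coprime.eq_one_of_dvd (H.coprime23 hnc) h)

theorem not32 : ¬ n3 ∣ n2 := fun h =>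
  H.ne_one3 hnc (Nat.Coprime.eq_one_of_dvd (H.coprime23 hnc).symm h)

theorem not12 : ¬ n1 ∣ n2 := fun h => H.ne12 (Nat.dvd_antisymm h H.dvd21)

theorem not13 : ¬ n1 ∣ n3 := fun h => H.not23 hnc (H.dvd21.trans h)

/-- Type two is inherited upwards. -/
theorem two_of_le {g h : G} (hh : h ≠ 1) (hle : cent g ≤ cent h) (hg : (cent g).index = n2) :
    (cent h).index = n2 := by
  have hd := Subgroup.index_dvd_of_le hle
  rw [hg] at hd
  rcases H.cases h hh with e | e | e <;> rw [e] at hd
  exacts [absurd hd (H.not12 hnc), e, absurd hd (H.not32 hnc)]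

theorem three_of_le {g h : G} (hh : h ≠ 1) (hle : cent g ≤ cent h) (hg : (cent g).index = n3) :
    (cent h).index = n3 := by
  have hd := Subgroup.index_dvd_of_le hle
  rw [hg] at hd
  rcases H.cases h hh with e | e | e <;> rw [e] at hd
  exacts [absurd hd (H.not13 hnc), absurd hd (H.not23 hnc), e]

theorem eq_of_le_one {g u : G} (hg : g ≠ 1) (hle : cent g ≤ cent u)
    (hu : (cent u).index = n1) : cent g = cent u := by
  have hd := Subgroup.index_dvd_of_le hle
  rw [hu] at hd
  have hgi : (cent g).index = n1 := by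
    rcases H.cases g hg with e | e | e <;> rw [e] at hd
    exacts [e, absurd hd (H.not12 hnc), absurd hd (H.not13 hnc)]
  refine Subgroup.eq_of_le_of_card_ge hle ?_
  have h1 := Subgroup.card_mul_index (cent g)
  have h2 := Subgroup.card_mul_index (cent u)
  rw [hgi] at h1
  rw [hu, ← h1] at h2
  exact (Nat.eq_of_mul_eq_mul_right (Nat.pos_of_ne_zero (fun h => Subgroup.index_ne_zero_of_finite
    (H := cent u) (hu.trans h))) h2).le

theorem min_coprime {u v : G} (hu1 : u ≠ 1) (hu : (cent u).index = n1) (hc : Commute u v)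
    (hcop : (orderOf u).Coprime (orderOf v)) : cent u ≤ cent v := by
  have h := cent_mul hc hcop
  have h' := H.eq_of_le_one hnc (mul_ne_one_of_coprime hu1 hcop) (h.le.trans inf_le_left) hu
  rw [h, inf_eq_left] at h'
  exact h'

/-- No element of type two commutes with one of type three. -/
theorem not_commute {a w : G} (ha : (cent a).index = n2) (hw : (cent w).index = n3) :
    ¬ Commute a w := by
  intro hc
  have hcop : (cent a).index.Coprime (cent w).index := by
    rw [ha, hw]; exact H.coprime23 hnc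
  have hconj : ∀ g : G, g * a * g⁻¹ ∈ cent w := by
    intro g
    obtain ⟨b, hb, c, hc', rfl⟩ := Solvable.exists_mul_eq_of_coprime_index hcop g
    have e : b * c * a * (b * c)⁻¹ = b * a * b⁻¹ := by
      calc b * c * a * (b * c)⁻¹ = b * (c * a) * c⁻¹ * b⁻¹ := by group
        _ = b * (a * c) * c⁻¹ * b⁻¹ := by rw [(mem_cent.1 hc').eq]
        _ = b * a * b⁻¹ := by group
    rw [e]
    exact mul_mem (mul_mem hb (mem_cent.2 hc)) (inv_mem hb)
  have hle : Subgroup.normalClosure ({a} : Set G) ≤ cent w := by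
    refine (Subgroup.closure_le _).2 fun x hx => ?_
    obtain ⟨a', ha', hax⟩ := Group.mem_conjugatesOfSet_iff.1 hx
    rw [Set.mem_singleton_iff] at ha'
    subst ha'
    obtain ⟨c, rfl⟩ := isConj_iff.1 hax
    exact hconj c
  rcases Subgroup.Normal.eq_bot_or_eq_top
    (inferInstance : (Subgroup.normalClosure ({a} : Set G)).Normal) with h | h
  · have ha1 : a ∈ (⊥ : Subgroup G) := h ▸ Subgroup.subset_normalClosure rfl
    rw [Subgroup.mem_bot] at ha1
    subst ha1
    rw [Subgroup.index_eq_one.2 (eq_top_iff.2 fun x _ => mem_cent.2 (Commute.one_right x))] at ha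
    exact H.ne_one2 hnc ha.symm
  · rw [h, top_le_iff] at hle
    rw [Subgroup.index_eq_one.2 hle] at hw
    exact H.ne_one3 hnc hw.symm

theorem exists_part_two {a : G} (ha : a ≠ 1) (hai : (cent a).index = n2) :
    ∃ (s : ℕ) (a' : G), s.Prime ∧ orderOf a' = s ∧ (cent a').index = n2 ∧ cent a ≤ cent a' ∧
      a' ∈ Subgroup.zpowers a := by
  obtain ⟨s, k, hs, hk⟩ := exists_prime_power_one ha
  exact ⟨s, a ^ k, hs, hk, H.two_of_le hnc (ne_one_of_order hs hk) (cent_le_pow a k) hai,
    cent_le_pow a k, Subgroup.npow_mem_zpowers a k⟩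

/-- Primes of `n2` do not divide the centralizers of type two. -/
theorem not_dvd_cent_two {p : ℕ} (hp : p.Prime) (hp2 : p ∣ n2) {a : G} (ha : a ≠ 1)
    (hai : (cent a).index = n2) : ¬ p ∣ Nat.card (cent a) := by
  haveI := Fact.mk hp
  intro hd
  have hnot : ∀ u : G, orderOf u = p →
      (cent u).index ≠ n2 ∧ ∃ z, Commute u z ∧ (cent z).index = n3 := by
    intro u hu
    obtain ⟨z, hz1, hzi, hzc⟩ := exists_central_order hu
    have hz3 : (cent z).index = n3 := by
      rcases H.cases z hz1 with e | e | e <;> rw [e] at hzi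
      exacts [absurd (hp2.trans H.dvd21) hzi, absurd hp2 hzi, e]
    exact ⟨fun h => H.not_commute hnc h hz3 hzc, z, hzc, hz3⟩
  obtain ⟨u, hu⟩ := exists_prime_orderOf_dvd_card' (G := cent a) p hd
  have hu' : orderOf (u : G) = p := by rw [Subgroup.orderOf_coe, hu]
  obtain ⟨hun, z, hzc, hz3⟩ := hnot _ hu'
  obtain ⟨s, a', hs, hs', ha'i, hle, -⟩ := H.exists_part_two hnc ha hai
  have hua : Commute (u : G) a' := mem_cent.1 (hle u.2)
  rcases H.cases (u : G) (ne_one_of_order hp hu') with e | e | e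
  · have hsp : s ≠ p := fun h => (hnot a' (h ▸ hs')).1 ha'i
    have hcu : cent (u : G) ≤ cent a' := H.min_coprime hnc (ne_one_of_order hp hu') e hua
      (by rw [hu', hs']; exact (Nat.coprime_primes hp hs).2 hsp.symm)
    exact H.not_commute hnc ha'i hz3 (mem_cent.1 (hcu (mem_cent.2 hzc.symm))).symm
  · exact hun e
  · exact H.not_commute hnc ha'i e hua.symm

theorem coprime_card_two {a : G} (ha : a ≠ 1) (hai : (cent a).index = n2) :
    Nat.Coprime (Nat.card (cent a)) n2 :=
  Nat.coprime_of_dvd fun _ hp h1 h2 => H.not_dvd_cent_two hnc hp h2 ha hai h1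

theorem card_one_dvd_two {g a : G} (hgi : (cent g).index = n1) (hai : (cent a).index = n2) :
    Nat.card (cent g) ∣ Nat.card (cent a) := by
  obtain ⟨x, y, -, -, hle, hx, hy⟩ := H.chain
  have key : ∀ u v : G, (cent u).index = (cent v).index →
      Nat.card (cent u) = Nat.card (cent v) := by
    intro u v h
    have h1 := Subgroup.card_mul_index (cent u)
    have h2 := Subgroup.card_mul_index (cent v)
    rw [h, ← h2] at h1
    exact Nat.eq_of_mul_eq_mul_right (Nat.pos_of_ne_zero Subgroup.index_ne_zero_of_finite) h1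
  rw [key g x (hgi.trans hx.symm), key a y (hai.trans hy.symm)]
  exact Subgroup.card_dvd_of_le hle

theorem three_of_dvd_order {g : G} {p : ℕ} (hp : p.Prime) (hp2 : p ∣ n2) (hg : g ≠ 1)
    (hd : p ∣ Nat.card (cent g)) : (cent g).index = n3 := by
  obtain ⟨x, y, -, hy1, -, -, hy⟩ := H.chain
  rcases H.cases g hg with e | e | e
  · exact absurd (hd.trans (H.card_one_dvd_two hnc e hy)) (H.not_dvd_cent_two hnc hp hp2 hy1 hy)
  · exact absurd hd (H.not_dvd_cent_two hnc hp hp2 hg e)
  · exact e

theorem not_three_of_order {u : G} {r : ℕ} (hr : r.Prime) (hu : orderOf u = r)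
    (hr2 : ¬ r ∣ n2) : (cent u).index ≠ n3 := by
  haveI := Fact.mk hr
  obtain ⟨x, y, -, hy1, -, -, hy⟩ := H.chain
  obtain ⟨S⟩ := (inferInstance : Nonempty (Sylow r (cent y)))
  have hz : IsPGroup r (Subgroup.zpowers u) :=
    IsPGroup.of_card (n := 1) (by rw [Nat.card_zpowers, hu, pow_one])
  obtain ⟨T, hT⟩ := hz.exists_le_sylow
  have hcard : Nat.card ((S : Subgroup (cent y)).map (cent y).subtype) = Nat.card T := by
    rw [← Nat.card_congr ((S : Subgroup (cent y)).equivMapOfInjective _
      (cent y).subtype_injective).toEquiv]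
    rw [show Nat.card (S : Subgroup (cent y)) = _ from S.card_eq_multiplicity,
      T.card_eq_multiplicity, ← Subgroup.card_mul_index (cent y), hy,
      Nat.factorization_mul Nat.card_pos.ne' (fun h => Subgroup.index_ne_zero_of_finite
        (H := cent y) (hy.trans h)), Finsupp.add_apply,
      Nat.factorization_eq_zero_of_not_dvd hr2, add_zero]
  let R : Sylow r G := Sylow.ofCard ((S : Subgroup (cent y)).map (cent y).subtype) (by
    rw [hcard, T.card_eq_multiplicity])
  obtain ⟨g, hg⟩ := MulAction.exists_smul_eq G T R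
  have hgu : g * u * g⁻¹ ∈ cent y := by
    have h1 : g * u * g⁻¹ ∈ (R : Subgroup G) := by
      rw [← hg, Sylow.coe_subgroup_smul, Frobenius.mem_conj_smul]
      simpa [mul_assoc] using hT (Subgroup.mem_zpowers u)
    exact Subgroup.map_subtype_le _ h1
  intro h3
  exact H.not_commute hnc hy ((index_cent_conj g u).trans h3) (mem_cent.1 hgu).symm

theorem prime_dvd_two_of_three {w : G} (hw : w ≠ 1) (hwi : (cent w).index = n3) {r : ℕ}
    (hr : r.Prime) (hd : r ∣ Nat.card (cent w)) : r ∣ n2 := by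
  haveI := Fact.mk hr
  by_contra hr2
  obtain ⟨u, hu⟩ := exists_prime_orderOf_dvd_card' (G := cent w) r hd
  have hu' : orderOf (u : G) = r := by rw [Subgroup.orderOf_coe, hu]
  have hcw : Commute (u : G) w := mem_cent.1 u.2
  rcases H.cases (u : G) (ne_one_of_order hr hu') with e | e | e
  · -- a prime of `w` divides `n2`
    obtain ⟨q, k, hq, hk⟩ := exists_prime_power_one hw
    have hq3 := H.three_of_le hnc (ne_one_of_order hq hk) (cent_le_pow w k) hwi
    have hqn : q ∣ n2 := by
      by_contra h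
      exact H.not_three_of_order hnc hq hk h hq3
    obtain ⟨x, y, -, hy1, -, -, hy⟩ := H.chain
    exact H.not_dvd_cent_two hnc hq hqn hy1 hy
      ((prime_dvd_card hk (cent (u : G)) (mem_cent.2 (hcw.pow_right k).symm)).trans
        (H.card_one_dvd_two hnc e hy))
  · exact H.not_commute hnc e hwi hcw
  · exact H.not_three_of_order hnc hr hu' hr2 e

theorem card_three {w a : G} (hw : w ≠ 1) (hwi : (cent w).index = n3) (ha : a ≠ 1)
    (hai : (cent a).index = n2) : Nat.card (cent w) = n2 ∧ Nat.card (cent a) = n3 := by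
  have h1 := Subgroup.card_mul_index (cent w)
  have h2 := Subgroup.card_mul_index (cent a)
  rw [hwi] at h1
  rw [hai] at h2
  have e : Nat.card (cent w) * n3 = Nat.card (cent a) * n2 := h1.trans h2.symm
  have hco : Nat.Coprime (Nat.card (cent w)) (Nat.card (cent a)) :=
    Nat.coprime_of_dvd fun r hr hw' ha' =>
      H.not_dvd_cent_two hnc hr (H.prime_dvd_two_of_three hnc hw hwi hr hw') ha hai ha'
  have hb : Nat.card (cent w) = n2 := Nat.dvd_antisymm
    (hco.dvd_of_dvd_mul_left (e ▸ dvd_mul_right _ _))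
    ((H.coprime23 hnc).dvd_of_dvd_mul_right (e.symm ▸ dvd_mul_left _ _))
  refine ⟨hb, ?_⟩
  rw [hb, mul_comm] at e
  exact (Nat.eq_of_mul_eq_mul_right (Nat.pos_of_ne_zero fun h => Nat.card_pos.ne' (hb.trans h)) e).symm

/-- The abelian CC-subgroup. -/
theorem exists_B : ∃ B : Subgroup G, Nat.card B = n2 ∧ (∀ x ∈ B, ∀ y ∈ B, Commute x y) ∧
    ∀ h ∈ B, h ≠ 1 → cent h = B := by
  obtain ⟨x, y, -, hy1, -, -, hy⟩ := H.chain
  obtain ⟨w₀, hw01, hw0⟩ := H.ex3
  obtain ⟨p, k, hp, hk⟩ := exists_prime_power_one hw01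
  set w := w₀ ^ k with hwdef
  have hw1 : w ≠ 1 := ne_one_of_order hp hk
  have hw : (cent w).index = n3 := H.three_of_le hnc hw1 (cent_le_pow w₀ k) hw0
  have hB := (H.card_three hnc hw1 hw hy1 hy).1
  set B := cent w with hBdef
  have hthree : ∀ h ∈ B, h ≠ 1 → (cent h).index = n3 := by
    intro h hh h1
    obtain ⟨r, j, hr, hj⟩ := exists_prime_power_one h1
    refine H.three_of_dvd_order hnc hr ?_ h1
      (prime_dvd_card hj _ (pow_mem (self_mem_cent h) j))
    rw [← hB]
    exact prime_dvd_card hj _ (pow_mem hh j)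
  have hsame : ∀ h ∈ B, h ≠ 1 → Nat.card (cent h) = n2 := fun h hh h1 =>
    (H.card_three hnc h1 (hthree h hh h1) hy1 hy).1
  have hn0 : n2 ≠ 0 := hB ▸ Nat.card_pos.ne'
  obtain ⟨q, hq, hqd, hqp⟩ := exists_second_prime (p := p) hn0
    (fun k h => index_not_prime_pow hnc hy1 hp (hy.trans h))
  haveI := Fact.mk hq
  obtain ⟨v, hv⟩ := exists_prime_orderOf_dvd_card' (G := B) q (hB ▸ hqd)
  have hv' : orderOf (v : G) = q := by rw [Subgroup.orderOf_coe, hv]
  have hv1 : (v : G) ≠ 1 := ne_one_of_order hq hv'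
  -- commuting elements of coprime order in `B` have the same centralizer
  have hpair : ∀ a ∈ B, ∀ c ∈ B, a ≠ 1 → c ≠ 1 → Commute a c →
      (orderOf a).Coprime (orderOf c) → cent a = cent c := by
    intro a ha c hc a1 c1 hac hco
    have h := cent_mul hac hco
    have hm := mul_mem ha hc
    have hm1 := mul_ne_one_of_coprime a1 hco
    have ea : cent (a * c) = cent a := Subgroup.eq_of_le_of_card_ge (h.le.trans inf_le_left)
      (by rw [hsame _ hm hm1, hsame _ ha a1])
    have ec : cent (a * c) = cent c := Subgroup.eq_of_le_of_card_ge (h.le.trans inf_le_right)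
      (by rw [hsame _ hm hm1, hsame _ hc c1])
    exact ea.symm.trans ec
  have hwB : w ∈ B := self_mem_cent w
  have hvw : cent w = cent (v : G) := hpair w hwB v v.2 hw1 hv1 (mem_cent.1 v.2).symm
    (by rw [hk, hv']; exact (Nat.coprime_primes hp hq).2 hqp.symm)
  have hcen : ∀ r n : ℕ, r.Prime → ∀ h ∈ B, orderOf h = r ^ n → h ≠ 1 → B ≤ cent h := by
    intro r n hr h hh ho h1
    by_cases hrp : r = p
    · rw [hBdef, hvw, hpair v v.2 h hh hv1 h1 (mem_cent.1 (hvw ▸ hh)).symm
        (by rw [hv', ho, hrp]; exact ((Nat.coprime_primes hq hp).2 hqp).pow_right n)]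
    · rw [hBdef, hpair w hwB h hh hw1 h1 (mem_cent.1 hh).symm
        (by rw [hk, ho]; exact ((Nat.coprime_primes hp hr).2 (Ne.symm hrp)).pow_right n)]
  have hab : ∀ a ∈ B, ∀ c ∈ B, Commute a c := by
    have htop : Subgroup.center B = ⊤ := by
      refine Subgroup.eq_top_of_card_eq _ (Nat.dvd_antisymm (Subgroup.card_subgroup_dvd_card _)
        ((Nat.dvd_iff_prime_pow_dvd_dvd _ _).2 fun r n hr hd => ?_))
      haveI := Fact.mk hr
      obtain ⟨R⟩ := (inferInstance : Nonempty (Sylow r B))
      refine (R.pow_dvd_card_of_pow_dvd_card hd).trans (Subgroup.card_dvd_of_le fun h hh => ?_)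
      rw [Subgroup.mem_center_iff]
      intro g
      by_cases h1 : h = 1
      · simp [h1]
      obtain ⟨j, hj⟩ := (IsPGroup.iff_orderOf.1 R.2) ⟨h, hh⟩
      rw [Subgroup.orderOf_mk] at hj
      have := hcen r j hr (h : G) h.2 (by rw [Subgroup.orderOf_coe, hj])
        (fun e => h1 (Subtype.ext e)) g.2
      exact Subtype.ext (mem_cent.1 this).eq
    intro a ha c hc
    exact congrArg Subtype.val
      (Subgroup.mem_center_iff.1 (htop ▸ Subgroup.mem_top (⟨c, hc⟩ : B)) ⟨a, ha⟩)
  refine ⟨B, hB, hab, fun h hh h1 => (Subgroup.eq_of_le_of_card_ge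
    (fun c hc => mem_cent.2 (hab c hc h hh)) (by rw [hB, hsame h hh h1])).symm⟩

/-- An element of type two fixes exactly one coset of a centralizer of type two. -/
theorem fixed_one {a a' : G} (ha : a ≠ 1) (hai : (cent a).index = n2) (ha' : a' ≠ 1)
    (hai' : (cent a').index = n2) :
    Nat.card (MulAction.fixedBy (G ⧸ cent a) a') = 1 := by
  obtain ⟨B, hB, hab, hcc⟩ := H.exists_B hnc
  obtain ⟨p, hp, hpd⟩ := Nat.exists_prime_and_dvd (H.ne_one2 hnc)
  obtain ⟨q, hq, hqd, hqp⟩ := exists_second_prime (p := p)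
    (hB ▸ Nat.card_pos.ne') (fun k h => index_not_prime_pow hnc ha hp (hai.trans h))
  refine card_fixedBy_eq_one hab hcc hp hq hqp.symm (hB.symm ▸ hpd) (hB.symm ▸ hqd)
    (hB.symm ▸ H.coprime_card_two hnc ha hai) (hai.trans hB.symm) (fun hc => ?_)
    (hai'.trans hB.symm)
  rw [center_eq_bot hnc, Subgroup.mem_bot] at hc
  exact ha' hc

/-- Two commuting elements of type two have equal centralizers. -/
theorem cent_eq_of_commute {a a' : G} (ha : a ≠ 1) (hai : (cent a).index = n2) (ha' : a' ≠ 1)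
    (hai' : (cent a').index = n2) (hc : Commute a a') : cent a' = cent a := by
  have h1 := H.fixed_one hnc ha hai ha' hai'
  have hsub := (Nat.card_eq_one_iff_unique.1 h1).1
  have hfix : ∀ g : G, g⁻¹ * a' * g ∈ cent a →
      ((g : G ⧸ cent a)) ∈ MulAction.fixedBy (G ⧸ cent a) a' := by
    intro g hg
    show a' • (g : G ⧸ cent a) = g
    rw [MulAction.Quotient.smul_coe, smul_eq_mul, eq_comm, QuotientGroup.eq]
    simpa [mul_assoc] using hg
  have hle : cent a' ≤ cent a := by
    intro k hk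
    have hone : ((1 : G) : G ⧸ cent a) ∈ MulAction.fixedBy (G ⧸ cent a) a' :=
      hfix 1 (by simpa using mem_cent.2 hc.symm)
    have hk' : ((k : G) : G ⧸ cent a) ∈ MulAction.fixedBy (G ⧸ cent a) a' :=
      hfix k (by
        rw [mul_assoc, ← (mem_cent.1 hk).eq, inv_mul_cancel_left]
        exact mem_cent.2 hc.symm)
    have e := congrArg Subtype.val (Subsingleton.elim (α := MulAction.fixedBy (G ⧸ cent a) a')
      ⟨_, hone⟩ ⟨_, hk'⟩)
    have e' := QuotientGroup.eq.1 e
    simpa using e'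
  refine Subgroup.eq_of_le_of_card_ge hle ?_
  have e1 := Subgroup.card_mul_index (cent a)
  have e2 := Subgroup.card_mul_index (cent a')
  rw [hai] at e1
  rw [hai', ← e1] at e2
  exact (Nat.eq_of_mul_eq_mul_right (Nat.pos_of_ne_zero fun h => Subgroup.index_ne_zero_of_finite
    (H := cent a) (hai.trans h)) e2).ge

/-- Conjugate commuting elements of type two are conjugate only by the centralizer. -/
theorem mem_of_commute_conj {a g : G} (ha : a ≠ 1) (hai : (cent a).index = n2)
    (hc : Commute a (g * a * g⁻¹)) : g ∈ cent a := by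
  have h1 := H.fixed_one hnc ha hai ha hai
  have hsub := (Nat.card_eq_one_iff_unique.1 h1).1
  have hfix : ∀ g : G, g⁻¹ * a * g ∈ cent a →
      ((g : G ⧸ cent a)) ∈ MulAction.fixedBy (G ⧸ cent a) a := by
    intro g hg
    show a • (g : G ⧸ cent a) = g
    rw [MulAction.Quotient.smul_coe, smul_eq_mul, eq_comm, QuotientGroup.eq]
    simpa [mul_assoc] using hg
  have hone : ((1 : G) : G ⧸ cent a) ∈ MulAction.fixedBy (G ⧸ cent a) a :=
    hfix 1 (by simpa using self_mem_cent a)
  have hg' : ((g : G) : G ⧸ cent a) ∈ MulAction.fixedBy (G ⧸ cent a) a := hfix g (by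
    rw [mem_cent, ← Commute.conj_iff g]
    rw [show g * (g⁻¹ * a * g) * g⁻¹ = a by group]
    exact hc)
  have e := congrArg Subtype.val (Subsingleton.elim (α := MulAction.fixedBy (G ⧸ cent a) a)
    ⟨_, hone⟩ ⟨_, hg'⟩)
  simpa using QuotientGroup.eq.1 e

/-- Elements of type two commuting with a type one element of order prime to theirs have the
same centralizer. -/
theorem cent_eq_of_one {u a a' : G} {r s : ℕ} (hr : r.Prime) (hu : orderOf u = r)
    (hui : (cent u).index = n1) (hs : s.Prime) (has : orderOf a = s) (hrs : s ≠ r)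
    (hai : (cent a).index = n2) (ha' : a' ≠ 1) (hai' : (cent a').index = n2)
    (h : Commute u a) (h' : Commute u a') : cent a' = cent a := by
  have hle : cent u ≤ cent a := H.min_coprime hnc (ne_one_of_order hr hu) hui h
    (by rw [hu, has]; exact (Nat.coprime_primes hr hs).2 hrs.symm)
  exact H.cent_eq_of_commute hnc (ne_one_of_order hs has) hai ha' hai'
    (mem_cent.1 (hle (mem_cent.2 h'.symm))).symm

theorem isFrobeniusComplement_cent {a : G} (ha : a ≠ 1) (hai : (cent a).index = n2) :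
    Cfsg.IsFrobeniusComplement (cent a) := by
  refine ⟨fun h => ha (by simpa [h] using self_mem_cent a),
    fun h => index_ne_one hnc ha (Subgroup.index_eq_one.2 h), fun g hg => ?_⟩
  rw [Subgroup.eq_bot_iff_forall]
  rintro u₀ ⟨hu0, hu0'⟩
  by_contra hu01
  replace hu0' := Frobenius.mem_conj_smul.1 hu0'
  set a' := g * a * g⁻¹ with ha'def
  have ha' : a' ≠ 1 := fun h => ha (by
    calc a = g⁻¹ * a' * g := by rw [ha'def]; group
      _ = 1 := by rw [h]; group)
  have hai' : (cent a').index = n2 := (index_cent_conj g a).trans hai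
  have hne : cent a' ≠ cent a := fun e =>
    hg (H.mem_of_commute_conj hnc ha hai (mem_cent.1 (e ▸ self_mem_cent a')).symm)
  obtain ⟨r, k, hr, hk⟩ := exists_prime_power_one hu01
  haveI := Fact.mk hr
  set u := u₀ ^ k with hudef
  have hu1 := ne_one_of_order hr hk
  have hua : Commute u a := (mem_cent.1 hu0).pow_left k
  have hua' : Commute u a' := by
    have h := (Commute.conj_iff g).2 (mem_cent.1 hu0')
    rw [show g * (g⁻¹ * u₀ * g) * g⁻¹ = u₀ by group] at h
    exact h.pow_left k
  rcases H.cases u hu1 with e | e | e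
  swap
  · exact hne ((H.cent_eq_of_commute hnc hu1 e ha' hai' hua').trans
      (H.cent_eq_of_commute hnc hu1 e ha hai hua).symm)
  swap
  · exact H.not_commute hnc hai e hua.symm
  obtain ⟨s1, a1, hs1, hs1', ha1i, ha1le, ha1m⟩ := H.exists_part_two hnc ha hai
  obtain ⟨s2, a2, hs2, hs2', ha2i, ha2le, ha2m⟩ := H.exists_part_two hnc ha' hai'
  have he1 : cent a1 = cent a := H.cent_eq_of_commute hnc ha hai (ne_one_of_order hs1 hs1') ha1i
    (mem_cent.1 (ha1le (self_mem_cent a)))
  have he2 : cent a2 = cent a' :=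
    H.cent_eq_of_commute hnc ha' hai' (ne_one_of_order hs2 hs2') ha2i
      (mem_cent.1 (ha2le (self_mem_cent a')))
  have hu_1 : Commute u a1 := mem_cent.1 (ha1le (mem_cent.2 hua))
  have hu_2 : Commute u a2 := mem_cent.1 (ha2le (mem_cent.2 hua'))
  by_cases h1r : s1 = r
  swap
  · exact hne ((H.cent_eq_of_one hnc hr hk e hs1 hs1' h1r ha1i ha' hai' hu_1 hua').trans he1)
  by_cases h2r : s2 = r
  swap
  · exact hne (he2.symm.trans
      (H.cent_eq_of_one hnc hr hk e hs2 hs2' h2r ha2i ha hai hu_2 hua).symm)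
  -- another prime of the centralizer
  obtain ⟨w, hw1, hw⟩ := H.ex3
  have hc3 : Nat.card (cent a) = n3 := (H.card_three hnc hw1 hw ha hai).2
  obtain ⟨s, hs, hsd, hsr⟩ := exists_second_prime (p := r) (hc3 ▸ Nat.card_pos.ne' : n3 ≠ 0)
    (fun j h => index_not_prime_pow hnc hw1 hr (hw.trans h))
  haveI := Fact.mk hs
  have hs2n : ¬ s ∣ n2 := fun h => hs.not_dvd_one ((H.coprime23 hnc) ▸ Nat.dvd_gcd h hsd)
  obtain ⟨v₀, hv₀⟩ := exists_prime_orderOf_dvd_card' (G := cent a) s (hc3 ▸ hsd)
  set v : G := (v₀ : G) with hvdef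
  have hv : orderOf v = s := by rw [hvdef, Subgroup.orderOf_coe, hv₀]
  have hv1 := ne_one_of_order hs hv
  have hva : Commute v a := mem_cent.1 v₀.2
  rcases H.cases v hv1 with ev | ev | ev
  · -- `s` divides the order of `cent u`
    have hdu : s ∣ Nat.card (cent u) := by
      have h1 := prime_dvd_card hv (cent v) (self_mem_cent v)
      have e1 := Subgroup.card_mul_index (cent v)
      have e2 := Subgroup.card_mul_index (cent u)
      rw [ev] at e1
      rw [e, ← e1] at e2
      rwa [Nat.eq_of_mul_eq_mul_right (Nat.pos_of_ne_zero fun h => Subgroup.index_ne_zero_of_finite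
        (H := cent u) (e.trans h)) e2]
    obtain ⟨v₁, hv₁⟩ := exists_prime_orderOf_dvd_card' (G := cent u) s hdu
    set w' : G := (v₁ : G) with hw'def
    have hw' : orderOf w' = s := by rw [hw'def, Subgroup.orderOf_coe, hv₁]
    have hw'u : Commute u w' := (mem_cent.1 v₁.2).symm
    rcases H.cases w' (ne_one_of_order hs hw') with ew | ew | ew
    · have hle : cent u ≤ cent w' := H.min_coprime hnc hu1 e hw'u
        (by rw [hk, hw']; exact (Nat.coprime_primes hr hs).2 hsr.symm)
      have hwa1 : Commute w' a1 := (mem_cent.1 (hle (mem_cent.2 hu_1.symm))).symm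
      have hwa2 : Commute w' a' := (mem_cent.1 (hle (mem_cent.2 hua'.symm))).symm
      exact hne ((H.cent_eq_of_one hnc hs hw' ew hs1 hs1' (by rw [h1r]; exact hsr.symm) ha1i
        ha' hai' hwa1 hwa2).trans he1)
    · exact hne ((H.cent_eq_of_one hnc hr hk e hs hw' hsr ew ha' hai' hw'u hua').trans
        (H.cent_eq_of_one hnc hr hk e hs hw' hsr ew ha hai hw'u hua).symm)
    · exact H.not_three_of_order hnc hs hw' hs2n ew
  · -- conjugates of `v`
    have he3 : cent v = cent a := H.cent_eq_of_commute hnc ha hai hv1 ev hva.symm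
    have huv : Commute u v := mem_cent.1 (he3 ▸ mem_cent.2 hua)
    exact hne ((H.cent_eq_of_one hnc hr hk e hs hv hsr ev ha' hai' huv hua').trans he3)
  · exact H.not_three_of_order hnc hs hv hs2n ev

theorem false' : False := by
  obtain ⟨x, y, -, hy1, -, -, hy⟩ := H.chain
  have hF := H.isFrobeniusComplement_cent hnc hy1 hy
  obtain ⟨N, -, hN, hcompl⟩ := Frobenius.exists_frobeniusKernel_subgroup hF
  rcases hN.eq_bot_or_eq_top with h | h
  · subst h
    exact hF.2.1 (Subgroup.isComplement'_bot_left.1 hcompl)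
  · subst h
    exact hF.1 (Subgroup.isComplement'_top_left.1 hcompl)

end Nested

/-- Three class sizes in a non-abelian simple group: the centralizers form an antichain. -/
theorem antichain_of_three [IsSimpleGroup G] (hnc : ¬ IsMulCommutative G)
    (h3 : Set.ncard {m : ℕ | ∃ x : G, x ∉ Subgroup.center G ∧
      m = (Subgroup.centralizer ({x} : Set G)).index} = 3) : Antichain G := by
  intro x y hx hy hle
  by_contra hne
  set S := {m : ℕ | ∃ x : G, x ∉ Subgroup.center G ∧
      m = (Subgroup.centralizer ({x} : Set G)).index} with hS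
  have hmem : ∀ g : G, g ≠ 1 → (cent g).index ∈ S := fun g hg => ⟨g, fun h => hg (by
    rwa [center_eq_bot hnc, Subgroup.mem_bot] at h), rfl⟩
  have hne' : (cent x).index ≠ (cent y).index := by
    intro e
    refine hne (Subgroup.eq_of_le_of_card_ge hle ?_)
    have h1 := Subgroup.card_mul_index (cent x)
    have h2 := Subgroup.card_mul_index (cent y)
    rw [← e, ← h1] at h2
    exact (Nat.eq_of_mul_eq_mul_right (Nat.pos_of_ne_zero Subgroup.index_ne_zero_of_finite) h2).le
  have hfin : S.Finite := Set.finite_of_ncard_pos (by omega)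
  obtain ⟨n3, hn3, hn3x, hn3y⟩ : ∃ n3 ∈ S, n3 ≠ (cent x).index ∧ n3 ≠ (cent y).index := by
    by_contra hc
    push Not at hc
    have hsub : S ⊆ {(cent x).index, (cent y).index} := fun m hm => by
      by_cases h : m = (cent x).index
      · exact Or.inl h
      · exact Or.inr (hc m hm h)
    have := Set.ncard_le_ncard hsub (Set.toFinite _)
    rw [Set.ncard_pair hne'] at this
    omega
  have hSeq : ({(cent x).index, (cent y).index, n3} : Set ℕ) = S := by
    refine Set.eq_of_subset_of_ncard_le ?_ ?_ hfin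
    · rintro m (rfl | rfl | rfl)
      exacts [hmem x hx, hmem y hy, hn3]
    · rw [h3, Set.ncard_eq_three.2 ⟨_, _, _, hne', hn3x.symm, hn3y.symm, rfl⟩]
  obtain ⟨g, hg, hgi⟩ := hn3
  have hcases : ∀ z : G, z ≠ 1 → (cent z).index = (cent x).index ∨
      (cent z).index = (cent y).index ∨ (cent z).index = n3 := by
    intro z hz
    have := hmem z hz
    rw [← hSeq] at this
    simpa using this
  exact Nested.false' (n1 := (cent x).index) (n2 := (cent y).index) (n3 := n3)
    ⟨hcases, hne', hn3x.symm, hn3y.symm,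
      ⟨g, fun h => hg (h ▸ one_mem _), hgi.symm⟩, x, y, hx, hy, hle, rfl, rfl⟩ hnc

end Cfsg.Agent.Ito7
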