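import Cfsg.Agent.Ito7.SL2
import Cfsg.Agent.S0205

/-!
# Finishing lemmas
-/

set_option autoImplicit false

namespace Cfsg.Agent.Ito7

universe u

variable {G : Type u} [Group G] [Finite G] [IsSimpleGroup G]

theorem false_of_normal_sylow (hnc : ¬ IsMulCommutative G) {p : ℕ} [Fact p.Prime] (P : Sylow p G)
    (hn : (P : Subgroup G).Normal) (hd : p ∣ Nat.card G) : False := by
  rcases hn.eq_bot_or_eq_top with h | h
  · exact P.not_dvd_index (by rw [h, Subgroup.index_bot]; exact hd)
  · have hG : IsPGroup p G := (Subgroup.topEquiv (G := G)).symm.toEquiv.nonempty.elim fun _ =>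
      (h ▸ P.2 : IsPGroup p (⊤ : Subgroup G)).of_equiv Subgroup.topEquiv
    haveI := hG.center_nontrivial
    have := center_eq_bot hnc
    exact (Subgroup.nontrivial_iff_ne_bot _).1 ‹_› this

theorem even_card
    (h : ∃ x : G, orderOf x = 2) : 2 ∣ Nat.card G := by
  obtain ⟨x, hx⟩ := h
  exact hx ▸ orderOf_dvd_natCard x

theorem false_of_cyclic_sylow (hnc : ¬ IsMulCommutative G) (P : Sylow 2 G)
    (hc : IsCyclic (P : Subgroup G)) (hd : 2 ∣ Nat.card G) : False := by
  haveI := Fact.mk Nat.prime_two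
  haveI : IsCyclic (P : Subgroup G) := hc
  have hmin : (Nat.card G).minFac = 2 := (Nat.minFac_eq_two_iff _).2 hd
  have hcompl := MonoidHom.ker_transferSylow_isComplement' P (hc.normalizer_le_centralizer hmin)
  set K := (MonoidHom.transferSylow P (hc.normalizer_le_centralizer hmin)).ker
  rcases (inferInstance : K.Normal).eq_bot_or_eq_top with h | h
  · rw [h] at hcompl
    exact false_of_normal_sylow hnc P
      (by rw [Subgroup.isComplement'_bot_left.1 hcompl]; infer_instance) hd
  · rw [h] at hcompl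
    exact P.not_dvd_index
      (by rw [Subgroup.isComplement'_top_left.1 hcompl, Subgroup.index_bot]; exact hd)

theorem two_dvd_card (hs : IsSimpleGroup G) (hnc : ¬ IsMulCommutative G) : 2 ∣ Nat.card G := by
  by_contra h
  have hsol : Group.IsSolvable G := Cfsg.Agent.S0205.result (Nat.odd_iff.2 (by omega))
  exact hnc ⟨⟨IsSimpleGroup.comm_iff_isSolvable.2 hsol⟩⟩

/-- A direct product isomorphic to a simple group with nontrivial first factor. -/
theorem fst_equiv {L A : Type*} [Group L] [Group A] [Nontrivial L] (e : G ≃* L × A) :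
    Nonempty (G ≃* L) := by
  let φ : G →* L := (MonoidHom.fst L A).comp e.toMonoidHom
  have hs : Function.Surjective φ := fun l => ⟨e.symm (l, 1), by simp [φ]⟩
  rcases (inferInstance : φ.ker.Normal).eq_bot_or_eq_top with h | h
  · exact ⟨MulEquiv.ofBijective φ ⟨(MonoidHom.ker_eq_bot_iff φ).1 h, hs⟩⟩
  · exfalso
    obtain ⟨l, hl⟩ := exists_ne (1 : L)
    obtain ⟨g, rfl⟩ := hs l
    exact hl (MonoidHom.mem_ker.1 (h ▸ Subgroup.mem_top g))

end Cfsg.Agent.Ito7
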