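import Cfsg.Agent.Ito7.Basic
import Cfsg.Agent.Lib.CharCore.Burnside
import Cfsg.Agent.Lib.CharInd.Char

/-!
# The permutation character on the cosets of a complement of a CC-subgroup

Let `G` be simple, `B` an abelian subgroup containing the centralizer of each of its nonidentity
elements, `C` a subgroup of coprime order with `|B| * |C| = |G|`, and `a` a noncentral element
whose class has `|B|` elements. If `|B|` has two prime divisors then `a` fixes exactly one coset
of `C`.
-/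

set_option autoImplicit false

open Finset
open scoped ComplexConjugate

namespace Cfsg.Agent.Ito7

universe u

variable {G : Type u} [Group G] [Finite G]

/-- Burnside: in a simple group, a nonprincipal irreducible character of degree coprime to the
class size of a noncentral element vanishes there. -/
theorem irr_apply_eq_zero [IsSimpleGroup G] (χ : Cfsg.IrrCharacter G) (hχ : (χ : G → ℂ) ≠ 1)
    {g : G} (hg : g ∉ Subgroup.center G)
    (hcop : ∀ d : ℕ, (χ : G → ℂ) 1 = d → Nat.Coprime d (cent g).index) :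
    (χ : G → ℂ) g = 0 := by
  have := Fintype.ofFinite G
  obtain ⟨χ, n, ρ, hρ, rfl⟩ := χ
  have hc' : Nat.Coprime (Module.finrank ℂ (Fin n → ℂ))
      (Subgroup.centralizer ({g} : Set G)).index :=
    hcop _ (Representation.char_one ρ)
  rcases CharCore.eq_zero_or_norm_eq_of_coprime ρ g hc' with h | h
  · exact h
  exfalso
  obtain ⟨c, hc⟩ := (CharCore.norm_character_eq_iff ρ g).mp h
  rcases Subgroup.Normal.eq_bot_or_eq_top (inferInstance : (MonoidHom.ker ρ).Normal) with hk | hk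
  · have hinj : Function.Injective ρ := (MonoidHom.ker_eq_bot_iff ρ).mp hk
    refine hg (Subgroup.mem_center_iff.mpr fun x => hinj ?_)
    rw [map_mul, map_mul, hc]
    ext v
    simp
  · apply hχ
    have hall : ∀ x, ρ.character x = (n : ℂ) := fun x => by
      have := (CharCore.character_eq_finrank_iff ρ x).mpr
        (MonoidHom.mem_ker.mp (hk ▸ Subgroup.mem_top x : x ∈ MonoidHom.ker ρ))
      simpa using this
    have h1 := CharCore.classInner_irr_self (⟨ρ.character, n, ρ, hρ, rfl⟩ : Cfsg.IrrCharacter G)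
    simp only [Cfsg.classInner, hall, Complex.conj_natCast, Finset.sum_const, Finset.card_univ,
      nsmul_eq_mul, ← Nat.card_eq_fintype_card] at h1
    rw [inv_mul_cancel_left₀ (Nat.cast_ne_zero.mpr Nat.card_pos.ne')] at h1
    have hn1 : n = 1 := by
      have : n * n = 1 := by exact_mod_cast h1
      exact Nat.eq_one_of_mul_eq_one_left this
    funext x
    show ρ.character x = 1
    rw [hall, hn1, Nat.cast_one]

/-- The irreducible characters of an abelian group are linear. -/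
theorem irr_one_of_comm {A : Type u} [Group A] [Finite A] (hA : ∀ a b : A, Commute a b)
    (ψ : Cfsg.IrrCharacter A) : (ψ : A → ℂ) 1 = 1 := by
  classical
  have := Fintype.ofFinite A
  choose d hd0 hd using fun φ : Cfsg.IrrCharacter A => CharCore.IsIrrCharacter.exists_degree φ.2
  have hsq := CharCore.sum_degree_sq (G := A)
  simp only [hd] at hsq
  have hsq' : ∑ φ : Cfsg.IrrCharacter A, d φ ^ 2 = Nat.card A := by exact_mod_cast hsq
  have hk : Fintype.card (Cfsg.IrrCharacter A) = Nat.card A := by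
    rw [← Nat.card_eq_fintype_card, CharCore.card_irr]
    refine (Nat.card_eq_of_bijective ConjClasses.mk ⟨fun a b h => ?_,
      ConjClasses.mk_surjective⟩).symm
    obtain ⟨c, hc⟩ := isConj_iff.1 (ConjClasses.mk_eq_mk_iff_isConj.1 h)
    rw [(hA c a).eq, mul_inv_cancel_right] at hc
    exact hc
  by_contra hne
  have hgt : ∑ φ : Cfsg.IrrCharacter A, 1 < ∑ φ : Cfsg.IrrCharacter A, d φ ^ 2 := by
    refine Finset.sum_lt_sum (fun φ _ => Nat.one_le_pow _ _ (hd0 φ)) ⟨ψ, Finset.mem_univ _, ?_⟩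
    refine Nat.one_lt_pow two_ne_zero (lt_of_le_of_ne (hd0 ψ) fun h => hne ?_)
    rw [hd ψ, ← h]
    exact Nat.cast_one
  rw [Finset.sum_const, Finset.card_univ, hk, hsq', smul_eq_mul, mul_one] at hgt
  exact lt_irrefl _ hgt

/-- Numerical step. -/
theorem coprime_of_bound {b m L : ℕ} (hm : 1 ≤ m) (hb : (m + 1) * (2 * m + 1) ≤ b)
    (hmb : Nat.Coprime m b) (hdb : m ∣ b - 1) (hdL : m ∣ L) (hL0 : 0 < L) (hL : L < b)
    (hineq : L * b ≤ b * m + L * L) : Nat.Coprime L b := by
  obtain ⟨j, rfl⟩ := hdL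
  obtain ⟨n, hn⟩ := hdb
  have hbn : b = m * n + 1 := by omega
  have hj0 : 0 < j := Nat.pos_of_mul_pos_left hL0
  have hjn : j ≤ n := by nlinarith
  rcases Nat.lt_or_ge j 2 with hj | hj
  · have : j = 1 := by omega
    subst this
    simpa using hmb
  rcases eq_or_lt_of_le hjn with rfl | hjn'
  · rw [hbn]
    exact (Nat.coprime_self_add_right (n := 1) (m := m * j)).mpr (Nat.coprime_one_right _)
  exfalso
  have hge : m * j + m + 1 ≤ b := by nlinarith
  have key : b + j * j * m < j * b := by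
    obtain ⟨i, rfl⟩ : ∃ i, j = i + 2 := ⟨j - 2, by omega⟩
    rcases Nat.lt_or_ge (m + 1) (i + 2) with h | h
    · have h1 : (i + 1) * (m * (i + 2) + m + 1) ≤ (i + 1) * b := Nat.mul_le_mul_left _ hge
      nlinarith
    · have h1 : (i + 1) * ((m + 1) * (2 * m + 1)) ≤ (i + 1) * b := Nat.mul_le_mul_left _ hb
      have h2 : (i + 1) * ((i + 2) * (2 * m + 1)) ≤ (i + 1) * ((m + 1) * (2 * m + 1)) :=
        Nat.mul_le_mul_left _ (Nat.mul_le_mul_right _ h)
      nlinarith
  nlinarith

theorem card_conj_filter {B : Subgroup G} (hcc : ∀ h ∈ B, h ≠ 1 → cent h = B) [Fintype G]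
    (S : Finset G) (hSB : ∀ h ∈ S, h ∈ B ∧ h ≠ 1)
    (hS : ∀ g ∈ Subgroup.normalizer (B : Set G), ∀ h ∈ S, g * h * g⁻¹ ∈ S) {h : G} (hh : h ∈ S)
    [DecidablePred fun x => ∃ g ∈ Subgroup.normalizer (B : Set G), g * h * g⁻¹ = x] :
    (S.filter fun x => ∃ g ∈ Subgroup.normalizer (B : Set G), g * h * g⁻¹ = x).card =
      B.relIndex (Subgroup.normalizer (B : Set G)) := by
  classical
  have hst : ∀ g₁ ∈ (Subgroup.normalizer (B : Set G)), ∀ g₂ ∈ (Subgroup.normalizer (B : Set G)), g₁ * h * g₁⁻¹ = g₂ * h * g₂⁻¹ ↔ g₁⁻¹ * g₂ ∈ B := by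
    intro g₁ _ g₂ _
    rw [← hcc h (hSB h hh).1 (hSB h hh).2, mem_cent, Commute, SemiconjBy]
    constructor <;> intro e
    · calc g₁⁻¹ * g₂ * h = g₁⁻¹ * (g₂ * h * g₂⁻¹) * g₂ := by group
        _ = g₁⁻¹ * (g₁ * h * g₁⁻¹) * g₂ := by rw [e]
        _ = h * (g₁⁻¹ * g₂) := by group
    · calc g₁ * h * g₁⁻¹ = g₁ * (h * (g₁⁻¹ * g₂)) * g₂⁻¹ := by group
        _ = g₁ * (g₁⁻¹ * g₂ * h) * g₂⁻¹ := by rw [e]
        _ = g₂ * h * g₂⁻¹ := by group
  rw [Subgroup.relIndex, Subgroup.index, ← Nat.card_eq_finsetCard]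
  refine (Nat.card_eq_of_bijective (α := (Subgroup.normalizer (B : Set G)) ⧸ B.subgroupOf (Subgroup.normalizer (B : Set G)))
    (fun q => Quotient.liftOn' q (fun g : (Subgroup.normalizer (B : Set G)) => (⟨(g : G) * h * (g : G)⁻¹,
      Finset.mem_filter.2 ⟨hS _ g.2 h hh, _, g.2, rfl⟩⟩ :
      (S.filter fun x => ∃ g ∈ Subgroup.normalizer (B : Set G), g * h * g⁻¹ = x))) ?_) ⟨?_, ?_⟩).symm
  · intro g₁ g₂ hq
    have hq' : (g₁⁻¹ * g₂ : (Subgroup.normalizer (B : Set G))) ∈ B.subgroupOf (Subgroup.normalizer (B : Set G)) := QuotientGroup.leftRel_apply.1 hq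
    exact Subtype.ext ((hst _ g₁.2 _ g₂.2).2 (by simpa [Subgroup.mem_subgroupOf] using hq'))
  · intro q₁ q₂ e
    induction q₁ using QuotientGroup.induction_on with
    | H g₁ =>
    induction q₂ using QuotientGroup.induction_on with
    | H g₂ =>
    refine QuotientGroup.eq.2 ?_
    simpa [Subgroup.mem_subgroupOf] using
      (hst _ g₁.2 _ g₂.2).1 (congrArg Subtype.val e)
  · rintro ⟨x, hx⟩
    obtain ⟨g, hg, rfl⟩ := (Finset.mem_filter.1 hx).2
    exact ⟨((⟨g, hg⟩ : (Subgroup.normalizer (B : Set G))) : (Subgroup.normalizer (B : Set G)) ⧸ B.subgroupOf (Subgroup.normalizer (B : Set G))), rfl⟩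

/-- Class sums over an `N(B)`-invariant subset of `B` minus the identity. -/
theorem exists_sum_eq_mul {B : Subgroup G} (hcc : ∀ h ∈ B, h ≠ 1 → cent h = B) [Fintype G]
    {χ : G → ℂ} (hχ : Cfsg.IsClassFunction G χ) (hint : ∀ g, IsIntegral ℤ (χ g))
    (S : Finset G) (hSB : ∀ h ∈ S, h ∈ B ∧ h ≠ 1)
    (hS : ∀ g ∈ Subgroup.normalizer (B : Set G), ∀ h ∈ S, g * h * g⁻¹ ∈ S) :
    ∃ z : ℂ, IsIntegral ℤ z ∧
      ∑ h ∈ S, χ h = (B.relIndex (Subgroup.normalizer (B : Set G)) : ℂ) * z := by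
  classical
  induction S using Finset.strongInduction with
  | H S ih =>
  rcases S.eq_empty_or_nonempty with rfl | ⟨h, hh⟩
  · exact ⟨0, isIntegral_zero, by simp⟩
  set N := Subgroup.normalizer (B : Set G)
  set p : G → Prop := fun x => ∃ g ∈ N, g * h * g⁻¹ = x with hp
  have hlt : S.filter (fun x => ¬ p x) ⊂ S := Finset.filter_ssubset.2
    ⟨h, hh, not_not.2 ⟨1, one_mem _, by simp⟩⟩
  obtain ⟨z, hz, hsum⟩ := ih _ hlt (fun x hx => hSB x (Finset.mem_filter.1 hx).1) (by
    intro g hg x hx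
    obtain ⟨hxS, hxp⟩ := Finset.mem_filter.1 hx
    refine Finset.mem_filter.2 ⟨hS g hg x hxS, fun hc => hxp ?_⟩
    obtain ⟨g', hg', e⟩ := hc
    refine ⟨g⁻¹ * g', mul_mem (inv_mem hg) hg', ?_⟩
    calc g⁻¹ * g' * h * (g⁻¹ * g')⁻¹ = g⁻¹ * (g' * h * g'⁻¹) * g := by group
      _ = x := by rw [e]; group)
  refine ⟨χ h + z, (hint h).add hz, ?_⟩
  rw [← Finset.sum_filter_add_sum_filter_not S p, hsum,
    Finset.sum_congr rfl (g := fun _ => χ h) (fun x hx => ?_), Finset.sum_const, nsmul_eq_mul,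
    card_conj_filter hcc S hSB hS hh, mul_add]
  obtain ⟨g, -, rfl⟩ := (Finset.mem_filter.1 hx).2
  exact hχ h g

theorem dvd_card_invariant {B : Subgroup G} (hcc : ∀ h ∈ B, h ≠ 1 → cent h = B) [Fintype G]
    (S : Finset G) (hSB : ∀ h ∈ S, h ∈ B ∧ h ≠ 1)
    (hS : ∀ g ∈ Subgroup.normalizer (B : Set G), ∀ h ∈ S, g * h * g⁻¹ ∈ S) :
    B.relIndex (Subgroup.normalizer (B : Set G)) ∣ S.card := by
  obtain ⟨z, hz, h⟩ := exists_sum_eq_mul (χ := fun _ => 1) hcc (fun _ _ => rfl)
    (fun _ => isIntegral_one) S hSB hS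
  rw [Finset.sum_const, nsmul_eq_mul, mul_one] at h
  exact CharClifford.dvd_of_mul_isIntegral hz h

theorem norm_sum_le_card {B : Subgroup G} [Fintype G] [DecidableEq G] [DecidablePred (· ∈ B)]
    (hTI : ∀ h ∈ B, h ≠ 1 → ∀ g : G, g * h * g⁻¹ ∈ B → g ∈ Subgroup.normalizer (B : Set G))
    (χ : Cfsg.IrrCharacter G) :
    (∑ h ∈ Finset.univ.filter (fun h : G => h ∈ B ∧ h ≠ 1), Complex.normSq ((χ : G → ℂ) h)) ≤
      (Nat.card (Subgroup.normalizer (B : Set G)) : ℝ) := by
  classical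
  set N := Subgroup.normalizer (B : Set G)
  have := Fintype.ofFinite (G ⧸ N)
  set T := Finset.univ.filter (fun h : G => h ∈ B ∧ h ≠ 1) with hT
  set s := ∑ h ∈ T, Complex.normSq ((χ : G → ℂ) h)
  have htot : ∑ g : G, Complex.normSq ((χ : G → ℂ) g) = (Nat.card G : ℝ) := by
    have h1 := CharCore.classInner_irr_self χ
    rw [Cfsg.classInner, inv_mul_eq_iff_eq_mul₀ (Nat.cast_ne_zero.2 Nat.card_pos.ne'), mul_one]
      at h1
    simp only [Complex.mul_conj] at h1
    exact_mod_cast h1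
  let f : (G ⧸ N) × G → G := fun q => q.1.out * q.2 * q.1.out⁻¹
  have hinj : Set.InjOn f ((Finset.univ ×ˢ T : Finset ((G ⧸ N) × G)) : Set ((G ⧸ N) × G)) := by
    rintro ⟨q, h⟩ hq ⟨q', h'⟩ hq' e
    rw [Finset.mem_coe, Finset.mem_product, hT, Finset.mem_filter] at hq hq'
    have e' : q.out * h * q.out⁻¹ = q'.out * h' * q'.out⁻¹ := e
    have hm : q'.out⁻¹ * q.out ∈ N := by
      refine hTI h hq.2.2.1 hq.2.2.2 _ ?_
      have : q'.out⁻¹ * q.out * h * (q'.out⁻¹ * q.out)⁻¹ = h' := by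
        calc q'.out⁻¹ * q.out * h * (q'.out⁻¹ * q.out)⁻¹
            = q'.out⁻¹ * (q.out * h * q.out⁻¹) * q'.out := by group
          _ = h' := by rw [e']; group
      rw [this]; exact hq'.2.2.1
    have hqq : q' = q := by
      rw [← QuotientGroup.out_eq' q', ← QuotientGroup.out_eq' q]
      exact QuotientGroup.eq.2 hm
    subst hqq
    exact Prod.ext rfl (mul_left_cancel (mul_right_cancel e'))
  have hle : ∑ q ∈ (Finset.univ ×ˢ T : Finset ((G ⧸ N) × G)),
      Complex.normSq ((χ : G → ℂ) (f q)) ≤ (Nat.card G : ℝ) := by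
    rw [← htot, ← Finset.sum_image (g := f) (f := fun g => Complex.normSq ((χ : G → ℂ) g)) hinj]
    exact Finset.sum_le_sum_of_subset_of_nonneg (Finset.subset_univ _)
      fun g _ _ => Complex.normSq_nonneg _
  rw [Finset.sum_product] at hle
  have hc : ∀ q : G ⧸ N, ∀ h : G, (χ : G → ℂ) (f (q, h)) = (χ : G → ℂ) h := fun q h =>
    CharCore.irr_isClassFunction χ h q.out
  simp only [hc] at hle
  rw [Finset.sum_const, Finset.card_univ, nsmul_eq_mul, ← Nat.card_eq_fintype_card,
    Subgroup.card_eq_card_quotient_mul_card_subgroup N, Nat.cast_mul] at hle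
  exact le_of_mul_le_mul_left hle (Nat.cast_pos.2 Nat.card_pos)

theorem relIndex_bound {B : Subgroup G} [Fintype G] (hBab : ∀ x ∈ B, ∀ y ∈ B, Commute x y)
    (hcc : ∀ h ∈ B, h ≠ 1 → cent h = B) {r : ℕ} (hr : r.Prime) (hrb : r ∣ Nat.card B) :
    let m := B.relIndex (Subgroup.normalizer (B : Set G))
    let P := r ^ (Nat.card B).factorization r
    m ∣ P - 1 ∧ Nat.Coprime m r ∧ 1 < P := by
  classical
  intro m P
  haveI := Fact.mk hr
  have hpos : 0 < (Nat.card B).factorization r :=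
    hr.factorization_pos_of_dvd Nat.card_pos.ne' hrb
  have hP1 : 1 < P := Nat.one_lt_pow hpos.ne' hr.one_lt
  obtain ⟨Q⟩ := (inferInstance : Nonempty (Sylow r B))
  have hQc : Nat.card Q = P := Q.card_eq_multiplicity
  have hQn : (Q : Subgroup B).Normal :=
    ⟨fun x hx y => by
      have : y * x * y⁻¹ = x := by
        apply Subtype.ext
        push_cast
        rw [(hBab _ y.2 _ x.2).eq, mul_inv_cancel_right]
      rwa [this]⟩
  haveI := hQn
  haveI := Sylow.unique_of_normal Q hQn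
  set S : Finset G := Finset.univ.filter (fun h => h ∈ B ∧ h ≠ 1 ∧ h ^ P = 1) with hS
  have hmem : ∀ h : G, (h ∈ B ∧ h ^ P = 1) ↔ h ∈ (Q : Subgroup B).map B.subtype := by
    intro h
    constructor
    · rintro ⟨hB, hh⟩
      have hz : IsPGroup r (Subgroup.zpowers (⟨h, hB⟩ : B)) := by
        obtain ⟨k, -, hk⟩ := (Nat.dvd_prime_pow hr).1
          (orderOf_dvd_of_pow_eq_one (x := (⟨h, hB⟩ : B)) (Subtype.ext (by simpa using hh)))
        exact IsPGroup.of_card (n := k) (by rw [Nat.card_zpowers, hk])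
      obtain ⟨R, hR⟩ := hz.exists_le_sylow
      exact ⟨⟨h, hB⟩, Subsingleton.elim R Q ▸ hR (Subgroup.mem_zpowers _), rfl⟩
    · rintro ⟨x, hx, rfl⟩
      refine ⟨x.2, ?_⟩
      have h1 : (⟨x, hx⟩ : Q) ^ Nat.card Q = 1 := pow_card_eq_one'
      rw [hQc] at h1
      have h2 : x ^ P = 1 := congrArg Subtype.val h1
      simpa using congrArg (B.subtype) h2
  have hcard : S.card + 1 = P := by
    have e : (((Q : Subgroup B).map B.subtype : Subgroup G) : Set G).toFinset = insert 1 S := by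
      ext h
      rw [Set.mem_toFinset, SetLike.mem_coe, ← hmem, Finset.mem_insert, hS, Finset.mem_filter]
      constructor
      · rintro ⟨h1, h2⟩
        by_cases h0 : h = 1
        · exact Or.inl h0
        · exact Or.inr ⟨Finset.mem_univ _, h1, h0, h2⟩
      · rintro (rfl | ⟨-, h1, -, h2⟩)
        · exact ⟨one_mem _, one_pow _⟩
        · exact ⟨h1, h2⟩
    have hn : (1 : G) ∉ S := by simp [hS]
    rw [← Finset.card_insert_of_notMem hn, ← e, Set.toFinset_card, ← Nat.card_eq_fintype_card,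
      ← hQc]
    exact (Nat.card_congr ((Q : Subgroup B).equivMapOfInjective _
      B.subtype_injective).toEquiv).symm
  have hdvd : m ∣ S.card := dvd_card_invariant hcc S
    (fun h hh => ⟨(Finset.mem_filter.1 hh).2.1, (Finset.mem_filter.1 hh).2.2.1⟩)
    (fun g hg h hh => by
      obtain ⟨-, h1, h2, h3⟩ := Finset.mem_filter.1 hh
      refine Finset.mem_filter.2 ⟨Finset.mem_univ _, (Subgroup.mem_normalizer_iff.1 hg h).1 h1,
        fun e => h2 ?_, by rw [conj_pow, h3]; group⟩
      calc h = g⁻¹ * (g * h * g⁻¹) * g := by group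
        _ = 1 := by rw [e]; group)
  have e1 : S.card = P - 1 := by omega
  refine ⟨e1 ▸ hdvd, ?_, hP1⟩
  rw [Nat.coprime_comm, hr.coprime_iff_not_dvd]
  intro hc
  have h1 : r ∣ S.card := hc.trans hdvd
  have h2 : r ∣ P := dvd_pow_self r hpos.ne'
  rw [← hcard] at h2
  exact hr.not_dvd_one ((Nat.dvd_add_right h1).1 h2)

theorem arith_facts {B : Subgroup G} [Fintype G] (hBab : ∀ x ∈ B, ∀ y ∈ B, Commute x y)
    (hcc : ∀ h ∈ B, h ≠ 1 → cent h = B) {p q : ℕ} (hp : p.Prime) (hq : q.Prime) (hpq : p ≠ q)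
    (hpb : p ∣ Nat.card B) (hqb : q ∣ Nat.card B) :
    let m := B.relIndex (Subgroup.normalizer (B : Set G))
    1 ≤ m ∧ (m + 1) * (2 * m + 1) ≤ Nat.card B ∧ Nat.Coprime m (Nat.card B) := by
  intro m
  have hm : 1 ≤ m := Nat.one_le_iff_ne_zero.2 Subgroup.index_ne_zero_of_finite
  refine ⟨hm, ?_, Nat.coprime_of_dvd' fun r hr h1 h2 => ?_⟩
  · obtain ⟨hd1, -, hP1⟩ := relIndex_bound hBab hcc hp hpb
    obtain ⟨hd2, -, hQ1⟩ := relIndex_bound hBab hcc hq hqb
    set P := p ^ (Nat.card B).factorization p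
    set Q := q ^ (Nat.card B).factorization q
    have hne : P ≠ Q := fun h => by
      have hd : p ∣ Q := h ▸ dvd_pow_self p
        (hp.factorization_pos_of_dvd Nat.card_pos.ne' hpb).ne'
      exact hpq ((Nat.prime_dvd_prime_iff_eq hp hq).1 (hp.dvd_of_dvd_pow hd))
    have hmul : P * Q ≤ Nat.card B := Nat.le_of_dvd Nat.card_pos
      (((Nat.coprime_primes hp hq).2 hpq).pow _ _ |>.mul_dvd_of_dvd_of_dvd
        (Nat.ordProj_dvd _ p) (Nat.ordProj_dvd _ q))
    obtain ⟨i, hi⟩ : m ∣ P - 1 := hd1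
    obtain ⟨j, hj⟩ : m ∣ Q - 1 := hd2
    have hi0 : 1 ≤ i := Nat.one_le_iff_ne_zero.2 (by rintro rfl; simp at hi; omega)
    have hj0 : 1 ≤ j := Nat.one_le_iff_ne_zero.2 (by rintro rfl; simp at hj; omega)
    have hij : i ≠ j := fun h => hne (by rw [h] at hi; omega)
    have hP : P = m * i + 1 := by omega
    have hQ : Q = m * j + 1 := by omega
    rw [hP, hQ] at hmul
    rcases Nat.lt_or_gt_of_ne hij with h | h
    · have hb1 : m * 1 ≤ m * i := Nat.mul_le_mul_left _ hi0
      have hb2 : m * 2 ≤ m * j := Nat.mul_le_mul_left _ (by omega)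
      nlinarith
    · have hb1 : m * 1 ≤ m * j := Nat.mul_le_mul_left _ hj0
      have hb2 : m * 2 ≤ m * i := Nat.mul_le_mul_left _ (by omega)
      nlinarith
  · obtain ⟨-, hco, -⟩ := relIndex_bound hBab hcc hr h2
    rw [← hco.gcd_eq_one]
    exact Nat.dvd_gcd h1 dvd_rfl

theorem degree_coprime {B : Subgroup G} [Fintype G] [Fintype B]
    (hBab : ∀ x ∈ B, ∀ y ∈ B, Commute x y) (hcc : ∀ h ∈ B, h ≠ 1 → cent h = B)
    {p q : ℕ} (hp : p.Prime) (hq : q.Prime) (hpq : p ≠ q) (hpb : p ∣ Nat.card B)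
    (hqb : q ∣ Nat.card B) (χ : Cfsg.IrrCharacter G) (L : ℕ) (hL : (χ : G → ℂ) 1 = L)
    (hL0 : 0 < L) (hLb : L < Nat.card B)
    (horth : Cfsg.classInner (fun h : B => (χ : G → ℂ) h) 1 = 0)
    (hfree : Cfsg.classInner (fun h : B => (χ : G → ℂ) h) (fun h : B => (χ : G → ℂ) h) = L) :
    Nat.Coprime L (Nat.card B) := by
  classical
  obtain ⟨hm, hbig, hmb⟩ := arith_facts hBab hcc hp hq hpq hpb hqb
  set N := Subgroup.normalizer (B : Set G) with hN
  set m := B.relIndex N with hmdef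
  set b := Nat.card B with hb
  set T := Finset.univ.filter (fun h : G => h ∈ B ∧ h ≠ 1) with hT
  have hTI : ∀ h ∈ B, h ≠ 1 → ∀ g : G, g * h * g⁻¹ ∈ B → g ∈ N := by
    intro h hh h1 g hg
    rw [hN, Subgroup.mem_normalizer_iff]
    intro x
    have h1' : g * h * g⁻¹ ≠ 1 := fun e => h1 (by
      calc h = g⁻¹ * (g * h * g⁻¹) * g := by group
        _ = 1 := by rw [e]; group)
    rw [← hcc h hh h1, mem_cent, hcc h hh h1, ← hcc _ hg h1', mem_cent, Commute.conj_iff]
  have hTB : ∀ h ∈ T, h ∈ B ∧ h ≠ 1 := fun h hh => (Finset.mem_filter.1 hh).2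
  have hTinv : ∀ g ∈ N, ∀ h ∈ T, g * h * g⁻¹ ∈ T := by
    intro g hg h hh
    obtain ⟨h1, h2⟩ := hTB h hh
    refine Finset.mem_filter.2 ⟨Finset.mem_univ _, (Subgroup.mem_normalizer_iff.1 hg h).1 h1,
      fun e => h2 ?_⟩
    calc h = g⁻¹ * (g * h * g⁻¹) * g := by group
      _ = 1 := by rw [e]; group
  -- sums over `B` and over `T`
  have hsplit : ∀ f : G → ℂ, ∑ h : B, f h = f 1 + ∑ h ∈ T, f h := by
    intro f
    rw [← Finset.sum_subtype (Finset.univ.filter (fun h : G => h ∈ B)) (by simp) f,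
      ← Finset.add_sum_erase _ f (a := 1) (by simp [one_mem])]
    congr 1
    refine Finset.sum_congr ?_ fun _ _ => rfl
    ext h
    simp [hT, and_comm]
  have hTcard : T.card = b - 1 := by
    have h := hsplit (fun _ => 1)
    simp only [Finset.sum_const, Finset.card_univ, nsmul_eq_mul, mul_one,
      ← Nat.card_eq_fintype_card] at h
    have h' : b = 1 + T.card := by exact_mod_cast h
    omega
  have hd1 : m ∣ b - 1 := hTcard ▸ dvd_card_invariant hcc T hTB hTinv
  have hb0 : (b : ℂ) ≠ 0 := Nat.cast_ne_zero.2 Nat.card_pos.ne'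
  have hdL : m ∣ L := by
    obtain ⟨z, hz, hs⟩ := exists_sum_eq_mul hcc (CharCore.irr_isClassFunction χ)
      (fun g => CharCore.IsCharacter.isIntegral (CharCore.irr_isCharacter χ) g) T hTB hTinv
    have h0 : (∑ h : B, (χ : G → ℂ) h) = 0 := by
      rw [Cfsg.classInner, mul_eq_zero, inv_eq_zero] at horth
      simpa using horth.resolve_left hb0
    rw [hsplit, hL, hs] at h0
    exact CharClifford.dvd_of_mul_isIntegral hz.neg (by linear_combination h0)
  have hineq : L * b ≤ b * m + L * L := by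
    have h1 := norm_sum_le_card hTI χ
    rw [← hT] at h1
    have h2 : (∑ h : B, (χ : G → ℂ) h * conj ((χ : G → ℂ) h)) = (b : ℂ) * L := by
      rw [Cfsg.classInner, inv_mul_eq_iff_eq_mul₀ hb0] at hfree
      exact hfree
    rw [hsplit (fun g => (χ : G → ℂ) g * conj ((χ : G → ℂ) g)), hL] at h2
    simp only [Complex.mul_conj, Complex.conj_natCast] at h2
    have h3 : (L : ℝ) * L + ∑ h ∈ T, Complex.normSq ((χ : G → ℂ) h) = (b : ℝ) * L := by
      exact_mod_cast h2
    have h4 : Nat.card N = b * m := by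
      have h5 := Subgroup.card_mul_index (B.subgroupOf N)
      rw [Nat.card_congr (Subgroup.subgroupOfEquivOfLe Subgroup.le_normalizer).toEquiv] at h5
      exact h5.symm
    rw [← hN, h4, Nat.cast_mul] at h1
    have h6 : (L : ℝ) * b ≤ b * m + L * L := by linarith
    exact_mod_cast h6
  exact coprime_of_bound hm hbig hmb hd1 hdL hL0 hLb hineq

/-- An element with class size `|B|` fixes exactly one coset of `C`. -/
theorem card_fixedBy_eq_one [IsSimpleGroup G] {B C : Subgroup G}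
    (hBab : ∀ x ∈ B, ∀ y ∈ B, Commute x y) (hcc : ∀ h ∈ B, h ≠ 1 → cent h = B)
    {p q : ℕ} (hp : p.Prime) (hq : q.Prime) (hpq : p ≠ q) (hpb : p ∣ Nat.card B)
    (hqb : q ∣ Nat.card B) (hcop : Nat.Coprime (Nat.card C) (Nat.card B))
    (hidx : C.index = Nat.card B) {a : G} (ha : a ∉ Subgroup.center G)
    (haidx : (cent a).index = Nat.card B) :
    Nat.card (MulAction.fixedBy (G ⧸ C) a) = 1 := by
  classical
  have := Fintype.ofFinite G
  have := Fintype.ofFinite B
  have := Fintype.ofFinite C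
  set b := Nat.card B with hb
  set π : G → ℂ := Cfsg.indFun C (fun _ => (1 : ℂ)) with hπ
  have hπe : π = Cfsg.indFun C (fun _ => (1 : ℂ)) := rfl
  have hπc : Cfsg.IsCharacter G π := by
    rw [hπe]
    exact CharInd.isCharacter_indFun _ (by simpa using CharCore.isCharacter_natCast (G := C) 1)
  have hπ1 : π 1 = b := by rw [hπe, CharInd.indFun_apply_one, hidx, mul_one]
  have hπh : ∀ h : B, h ≠ 1 → π h = 0 := by
    intro h hh
    rw [hπe]
    refine CharInd.indFun_eq_zero_of_forall_notMem _ _ fun x hx => hh ?_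
    have h1 : orderOf (x⁻¹ * (h : G) * x) ∣ Nat.card C := C.orderOf_dvd_natCard hx
    have h2 : orderOf (x⁻¹ * (h : G) * x) = orderOf (h : G) := by
      have := orderOf_injective (MulAut.conj x⁻¹).toMonoidHom (MulAut.conj x⁻¹).injective (h : G)
      simpa using this
    have h3 : orderOf (h : G) ∣ Nat.card B := B.orderOf_dvd_natCard h.2
    exact Subtype.ext (orderOf_eq_one_iff.1 (Nat.eq_one_of_dvd_coprimes hcop (h2 ▸ h1) h3))
  -- `⟨f, π|B⟩ = f 1`
  have hreg : ∀ f : B → ℂ, Cfsg.classInner f (fun h : B => π h) = f 1 := by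
    intro f
    rw [Cfsg.classInner, Finset.sum_eq_single (1 : B)
      (fun h _ hh => by rw [hπh h hh, map_zero, mul_zero]) (by simp)]
    rw [Subgroup.coe_one, hπ1, Complex.conj_natCast, ← mul_assoc, mul_comm _ (f 1), mul_assoc,
      inv_mul_cancel₀ (Nat.cast_ne_zero.2 Nat.card_pos.ne'), mul_one]
  -- decomposition of `π`
  obtain ⟨k, hk⟩ := CharCore.IsCharacter.exists_sum hπc
  let χ₀ : Cfsg.IrrCharacter G := ⟨1, CharCore.isIrrCharacter_one⟩
  have hk0 : k χ₀ = 1 := by
    have h1 : Cfsg.classInner π (χ₀ : G → ℂ) = 1 := by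
      rw [hπe, CharInd.classInner_indFun_left _ _ (CharCore.irr_isClassFunction χ₀)]
      simp [Cfsg.classInner, χ₀, Nat.card_eq_fintype_card]
    rw [hk, CharCore.classInner_sum_all (fun ψ => (k ψ : ℂ))] at h1
    exact_mod_cast h1
  -- every nonprincipal constituent vanishes at `a`
  have hvan : ∀ χ : Cfsg.IrrCharacter G, χ ≠ χ₀ → k χ ≠ 0 → (χ : G → ℂ) a = 0 := by
    intro χ hχ hkχ
    obtain ⟨L, hL0, hL⟩ := CharCore.IsIrrCharacter.exists_degree χ.2
    have hχB : Cfsg.IsCharacter B (fun h : B => (χ : G → ℂ) h) :=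
      CharCore.isCharacter_restrict (CharCore.irr_isCharacter χ) B
    obtain ⟨l, hl⟩ := CharCore.IsCharacter.exists_sum hχB
    -- multiplicities in the restriction
    have hmult : ∀ ψ : Cfsg.IrrCharacter B,
        ∑ φ : Cfsg.IrrCharacter G, (k φ : ℂ) *
          Cfsg.classInner (fun h : B => (φ : G → ℂ) h) (ψ : B → ℂ) = 1 := by
      intro ψ
      have e : (fun h : B => π h) =
          ∑ φ : Cfsg.IrrCharacter G, (k φ : ℂ) • (fun h : B => (φ : G → ℂ) h) := by
        funext h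
        simp [hk, Finset.sum_apply]
      have h1 : Cfsg.classInner (fun h : B => π h) (ψ : B → ℂ) = 1 := by
        have h2 := hreg (ψ : B → ℂ)
        rw [irr_one_of_comm (fun x y => Subtype.ext (hBab _ x.2 _ y.2).eq) ψ] at h2
        rw [← CharInd.classInner_swap, h2, map_one]
      rw [e, CharCore.classInner_sum_left] at h1
      simpa only [CharCore.classInner_smul_left] using h1
    -- natural numbers
    have hnat : ∀ (φ : Cfsg.IrrCharacter G) (ψ : Cfsg.IrrCharacter B), ∃ n : ℕ,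
        Cfsg.classInner (fun h : B => (φ : G → ℂ) h) (ψ : B → ℂ) = n := fun φ ψ =>
      CharCore.IsCharacter.exists_classInner_irr_eq_natCast
        (CharCore.isCharacter_restrict (CharCore.irr_isCharacter φ) B) ψ
    choose e he using hnat
    have hsum : ∀ ψ, ∑ φ : Cfsg.IrrCharacter G, k φ * e φ ψ = 1 := by
      intro ψ
      have := hmult ψ
      simp only [he] at this
      exact_mod_cast this
    have hle : ∀ φ ψ, k φ * e φ ψ ≤ 1 := fun φ ψ =>
      hsum ψ ▸ Finset.single_le_sum (f := fun φ => k φ * e φ ψ) (fun _ _ => Nat.zero_le _)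
        (Finset.mem_univ φ)
    have hel : ∀ ψ, e χ ψ = l ψ := by
      intro ψ
      have := he χ ψ
      rw [hl, CharCore.classInner_sum_all (fun ψ => (l ψ : ℂ))] at this
      exact_mod_cast this.symm
    -- the trivial character of `B`
    let ψ₀ : Cfsg.IrrCharacter B := ⟨1, CharCore.isIrrCharacter_one⟩
    have he0 : e χ₀ ψ₀ = 1 := by
      have := he χ₀ ψ₀
      have h1 := CharCore.classInner_irr_self ψ₀
      rw [show (fun h : B => (χ₀ : G → ℂ) h) = (ψ₀ : B → ℂ) from rfl, h1] at this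
      exact_mod_cast this.symm
    have horth : Cfsg.classInner (fun h : B => (χ : G → ℂ) h) 1 = 0 := by
      have h2 : k χ * e χ ψ₀ = 0 := by
        have h3 := Finset.add_sum_erase Finset.univ (fun φ => k φ * e φ ψ₀)
          (Finset.mem_univ χ₀)
        rw [hsum ψ₀, hk0, he0] at h3
        have h3' : ∑ φ ∈ Finset.univ.erase χ₀, k φ * e φ ψ₀ = 0 := by omega
        exact Finset.sum_eq_zero_iff.1 h3' χ (by simp [hχ])
      have h4 : e χ ψ₀ = 0 := (mul_eq_zero.1 h2).resolve_left hkχ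
      have := he χ ψ₀
      rw [h4, Nat.cast_zero] at this
      exact this
    have hfree : Cfsg.classInner (fun h : B => (χ : G → ℂ) h) (fun h : B => (χ : G → ℂ) h) =
        L := by
      have h5 : ∀ ψ, (l ψ : ℂ) * conj (l ψ : ℂ) = (l ψ : ℂ) := by
        intro ψ
        have h6 : l ψ ≤ 1 := by
          rw [← hel]
          exact le_trans (Nat.le_mul_of_pos_left _ (Nat.pos_of_ne_zero hkχ)) (hle χ ψ)
        interval_cases (l ψ) <;> simp
      have h7 : (L : ℂ) = ∑ ψ : Cfsg.IrrCharacter B, (l ψ : ℂ) := by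
        have h8 := congrFun hl 1
        simp only [Subgroup.coe_one, hL, Finset.sum_apply, Pi.smul_apply, smul_eq_mul] at h8
        rw [h8]
        refine Finset.sum_congr rfl fun ψ _ => ?_
        rw [irr_one_of_comm (fun x y => Subtype.ext (hBab _ x.2 _ y.2).eq) ψ, mul_one]
      rw [hl, CharCore.classInner_sum_sum (fun ψ => (l ψ : ℂ)) (fun ψ => (l ψ : ℂ)), h7]
      exact Finset.sum_congr rfl fun ψ _ => h5 ψ
    have hLb : L < b := by
      have h9 := congrFun hk 1
      rw [hπ1] at h9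
      choose d hd0 hd using fun φ : Cfsg.IrrCharacter G =>
        CharCore.IsIrrCharacter.exists_degree φ.2
      simp only [Finset.sum_apply, Pi.smul_apply, smul_eq_mul, hd] at h9
      have h10 : b = ∑ φ : Cfsg.IrrCharacter G, k φ * d φ := by exact_mod_cast h9
      have h11 : ({χ₀, χ} : Finset (Cfsg.IrrCharacter G)) ⊆ Finset.univ := Finset.subset_univ _
      have h12 := Finset.sum_le_sum_of_subset (f := fun φ => k φ * d φ) h11
      rw [Finset.sum_pair (Ne.symm hχ), hk0, ← h10] at h12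
      have h13 : d χ = L := by
        have := hd χ
        rw [hL] at this
        exact_mod_cast this.symm
      have h14 : d χ₀ ≤ 1 * d χ₀ := by omega
      have h15 : d χ ≤ k χ * d χ := Nat.le_mul_of_pos_left _ (Nat.pos_of_ne_zero hkχ)
      have := hd0 χ₀
      omega
    refine irr_apply_eq_zero χ (fun h => hχ (Subtype.ext h)) ha fun d hd => ?_
    rw [haidx]
    rw [hL] at hd
    have : L = d := by exact_mod_cast hd
    subst this
    exact degree_coprime hBab hcc hp hq hpq hpb hqb χ L hL hL0 hLb horth hfree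
  have hval : π a = 1 := by
    rw [hk, Finset.sum_apply, Finset.sum_eq_single χ₀]
    · simp [hk0, χ₀]
    · intro χ _ hχ
      by_cases h : k χ = 0
      · simp [h]
      · simp [hvan χ hχ h]
    · simp
  rw [hπe, CharInd.indFun_one_eq_fixedBy] at hval
  exact_mod_cast hval

end Cfsg.Agent.Ito7
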