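import Cfsg.Agent.Ito7.Chain
import Cfsg.Agent.Char2x2.OrderP
import Cfsg.Agent.CharDeep.OrderP.Recog

/-!
# The centralizer orders in `SL₂(2^m)`
-/

set_option autoImplicit false

open Matrix

namespace Cfsg.Agent.Ito7

open Cfsg.Agent.Char2x2

variable {F : Type*} [Field F] [Fintype F] [CharP F 2]

local notation "SL2" => Matrix.SpecialLinearGroup (Fin 2) F

theorem nrm_count {t : F} (ht : t ≠ 0) :
    Nat.card {w : F × F // nrm t 1 w.1 w.2 = 1} +
      Nat.card {s : F // s ^ 2 + t * s + 1 = 0} = Fintype.card F + 1 := by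
  classical
  have h2 : (2 : F) = 0 := CharTwo.two_eq_zero
  let e : {w : F × F // nrm t 1 w.1 w.2 = 1} ≃ Option {s : F // s ^ 2 + t * s + 1 ≠ 0} :=
    { toFun := fun w => if h : w.1.2 = 0 then none else
        some ⟨(w.1.1 - 1) / w.1.2, fun hs => by
          have hw := w.2
          simp only [nrm] at hw
          field_simp at hs
          have : t * w.1.2 = 0 := by linear_combination hw - hs + (1 - w.1.1) * h2
          exact (mul_ne_zero ht h) this⟩
      invFun := fun o => match o with
        | none => ⟨(1, 0), by simp [nrm]⟩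
        | some s => ⟨(1 + s.1 * (t / (s.1 ^ 2 + t * s.1 + 1)), t / (s.1 ^ 2 + t * s.1 + 1)), by
            have hs := s.2
            have huD : t / (s.1 ^ 2 + t * s.1 + 1) * (s.1 ^ 2 + t * s.1 + 1) = t :=
              div_mul_cancel₀ _ hs
            simp only [nrm]
            generalize t / (s.1 ^ 2 + t * s.1 + 1) = u at huD ⊢
            linear_combination u * huD + (s.1 * u + t * u) * h2⟩
      left_inv := fun w => by
        obtain ⟨⟨x, y⟩, hw⟩ := w
        simp only [nrm] at hw
        by_cases hy : y = 0
        · subst hy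
          have hx : x = 1 := by
            have h : (x - 1) ^ 2 = 0 := by linear_combination hw + (1 - x) * h2
            exact sub_eq_zero.mp ((pow_eq_zero_iff two_ne_zero).mp h)
          simp [hx]
        · simp only [hy, dite_false]
          have hd : ((x - 1) / y) ^ 2 + t * ((x - 1) / y) + 1 = t / y := by
            field_simp
            linear_combination hw + (1 - x - t * y) * h2
          apply Subtype.ext
          simp only [hd]
          rw [show t / (t / y) = y by field_simp]
          refine Prod.ext ?_ rfl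
          show 1 + (x - 1) / y * y = x
          field_simp
          ring
      right_inv := fun o => by
        rcases o with _ | ⟨s, hs⟩
        · simp
        · have hy : t / (s ^ 2 + t * s + 1) ≠ 0 := div_ne_zero ht hs
          simp only [hy, dite_false, Option.some.injEq, Subtype.mk.injEq]
          rw [add_sub_cancel_left, mul_div_assoc, div_self hy, mul_one] }
  rw [Nat.card_congr e, Finite.card_option, add_right_comm, add_comm (Nat.card _)]
  congr 1
  rw [← Nat.card_eq_fintype_card, ← Nat.card_sum]
  exact Nat.card_congr (Equiv.sumCompl fun s : F => s ^ 2 + t * s + 1 = 0)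

theorem card_roots {t : F} (ht : t ≠ 0) :
    Nat.card {s : F // s ^ 2 + t * s + 1 = 0} = 0 ∨
      Nat.card {s : F // s ^ 2 + t * s + 1 = 0} = 2 := by
  by_cases h : ∃ r : F, r ^ 2 + t * r + 1 = 0
  · right
    obtain ⟨r, hr⟩ := h
    have h2 : (2 : F) = 0 := CharTwo.two_eq_zero
    rw [Nat.card_eq_two_iff]
    refine ⟨⟨r, hr⟩, ⟨r + t, by linear_combination hr + (r * t + t ^ 2) * h2⟩, fun e => ht ?_, ?_⟩
    · have := congrArg Subtype.val e
      simpa using this
    · ext ⟨s, hs⟩
      simp only [Set.mem_insert_iff, Set.mem_singleton_iff, Subtype.mk.injEq, Set.mem_univ,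
        iff_true]
      have : (s - r) * (s - (r + t)) = 0 := by
        linear_combination hs - hr + (r ^ 2 - r * s - t * s + r * t) * h2
      rcases mul_eq_zero.1 this with h | h
      · exact Or.inl (sub_eq_zero.1 h)
      · exact Or.inr (sub_eq_zero.1 h)
  · left
    rw [Nat.card_eq_zero]
    exact Or.inl ⟨fun s => h ⟨s.1, s.2⟩⟩

theorem exists_rootless (hq : 4 ≤ Fintype.card F) :
    ∃ t : F, t ≠ 0 ∧ ¬ ∃ r : F, r ^ 2 + t * r + 1 = 0 := by
  classical
  by_contra hc
  push Not at hc
  choose r hr using hc
  have h2 : (2 : F) = 0 := CharTwo.two_eq_zero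
  let f : {t : F // t ≠ 0} × Fin 2 → {s : F // s ≠ 0 ∧ s ≠ 1} := fun p =>
    ⟨if p.2 = 0 then r p.1 p.1.2 else r p.1 p.1.2 + p.1.1, by
      obtain ⟨⟨t, ht⟩, i⟩ := p
      have h1 := hr t ht
      have hroot : (if i = 0 then r t ht else r t ht + t) ^ 2 +
          t * (if i = 0 then r t ht else r t ht + t) + 1 = 0 := by
        split_ifs
        · exact h1
        · linear_combination h1 + (r t ht * t + t ^ 2) * h2
      refine ⟨fun e => ?_, fun e => ?_⟩ <;> rw [e] at hroot
      · simp at hroot
      · exact ht (by linear_combination hroot - h2)⟩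
  have hinj : Function.Injective f := by
    rintro ⟨⟨t, ht⟩, i⟩ ⟨⟨t', ht'⟩, j⟩ e
    have e' := congrArg Subtype.val e
    simp only [f] at e'
    have hroot : ∀ (t : F) (ht : t ≠ 0) (i : Fin 2),
        (if i = 0 then r t ht else r t ht + t) ^ 2 +
          t * (if i = 0 then r t ht else r t ht + t) + 1 = 0 := by
      intro t ht i
      split_ifs
      · exact hr t ht
      · linear_combination hr t ht + (r t ht * t + t ^ 2) * h2
    have h1 := hroot t ht i
    have h1' := hroot t' ht' j
    rw [e'] at h1
    have hs : (if j = 0 then r t' ht' else r t' ht' + t') ≠ 0 := fun h => by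
      rw [h] at h1'
      simp at h1'
    have htt : t = t' := mul_right_cancel₀ hs (by linear_combination h1 - h1')
    subst htt
    fin_cases i <;> fin_cases j <;> simp_all
  have hle := Nat.card_le_card_of_injective f hinj
  rw [Nat.card_prod, Nat.card_eq_fintype_card (α := Fin 2), Fintype.card_fin,
    Nat.card_eq_fintype_card, Nat.card_eq_fintype_card, Fintype.card_subtype_compl,
    Fintype.card_subtype_eq] at hle
  have hle2 : Fintype.card {s : F // s ≠ 0 ∧ s ≠ 1} ≤ Fintype.card F :=
    Fintype.card_subtype_le _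
  omega

/-- The centralizer of a nonscalar element of `SL₂(2^m)`. -/
theorem card_cent_cases {g : SL2} (hg : NonScalar (sm g)) :
    Nat.card (cent g) = Fintype.card F ∨ Nat.card (cent g) = Fintype.card F + 1 ∨
      Nat.card (cent g) = Fintype.card F - 1 := by
  by_cases ht : (sm g).trace = 0
  · left
    rw [show Nat.card (cent g) = _ from card_centralizer_unipotent hg
      (by rw [ht]; exact CharTwo.two_eq_zero.symm), card_sq_one_char_two, one_mul]
  · have h := nrm_count ht
    have e : Nat.card (cent g) = _ := sl_centralizer_card hg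
    rcases card_roots ht with h0 | h0 <;> rw [h0, ← e] at h <;> omega

theorem exists_three (hq : 4 ≤ Fintype.card F) :
    ∃ a b c : SL2, NonScalar (sm a) ∧ NonScalar (sm b) ∧ NonScalar (sm c) ∧
      Nat.card (cent a) = Fintype.card F ∧ Nat.card (cent b) = Fintype.card F + 1 ∧
      Nat.card (cent c) = Fintype.card F - 1 := by
  classical
  obtain ⟨t, ht, hno⟩ := exists_rootless (F := F) hq
  obtain ⟨s, hs0, hs1⟩ : ∃ s : F, s ≠ 0 ∧ s ≠ 1 := by
    by_contra hc
    push Not at hc
    have h : (Finset.univ : Finset F) ⊆ {0, 1} := fun s _ => by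
      by_cases h : s = 0
      · simp [h]
      · simp [hc s h]
    have := (Finset.card_le_card h).trans Finset.card_le_two
    rw [Finset.card_univ] at this
    omega
  have h2 : (2 : F) = 0 := CharTwo.two_eq_zero
  have hc0 : s + s⁻¹ ≠ 0 := by
    intro h
    field_simp at h
    have h' : (s - 1) ^ 2 = 0 := by linear_combination h - s * h2
    exact hs1 (sub_eq_zero.mp ((pow_eq_zero_iff two_ne_zero).mp h'))
  refine ⟨kmat 0 1, kmat t 1, kmat (s + s⁻¹) 1, nonScalar_kmat _ _, nonScalar_kmat _ _,
    nonScalar_kmat _ _, ?_, ?_, ?_⟩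
  · rw [show Nat.card (cent (kmat (0 : F) 1)) = _ from card_centralizer_unipotent
      (nonScalar_kmat _ _) (by rw [trace_kmat]; exact h2.symm), card_sq_one_char_two, one_mul]
  · have e : Nat.card (cent (kmat t 1)) = _ := sl_centralizer_card (nonScalar_kmat t 1)
    rw [trace_kmat] at e
    have h := nrm_count ht
    have h0 : Nat.card {x : F // x ^ 2 + t * x + 1 = 0} = 0 := by
      rw [Nat.card_eq_zero]
      exact Or.inl ⟨fun x => hno ⟨x.1, x.2⟩⟩
    rw [h0, ← e] at h
    omega
  · have e : Nat.card (cent (kmat (s + s⁻¹) 1)) = _ :=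
      sl_centralizer_card (nonScalar_kmat (s + s⁻¹) 1)
    rw [trace_kmat] at e
    have h := nrm_count hc0
    have hroot : s ^ 2 + (s + s⁻¹) * s + 1 = 0 := by
      field_simp
      linear_combination (s ^ 2 + 1) * h2
    rcases card_roots hc0 with h0 | h0
    · exfalso
      rw [Nat.card_eq_zero] at h0
      rcases h0 with h0 | h0
      · exact h0.elim ⟨s, hroot⟩
      · exact not_finite {x : F // x ^ 2 + (s + s⁻¹) * x + 1 = 0}
    · rw [h0, ← e] at h
      omega

theorem sizes_SL2 {a : ℕ} (ha : Fintype.card F = 2 ^ a) (h4 : 4 ≤ Fintype.card F) :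
    Set.ncard {m : ℕ | ∃ x : SL2, x ∉ Subgroup.center SL2 ∧
      m = (Subgroup.centralizer ({x} : Set SL2)).index} = 3 := by
  haveI : Finite SL2 := inferInstance
  set q := Fintype.card F with hq
  have hN : ∀ x : SL2, x ∉ Subgroup.center SL2 → NonScalar (sm x) := by
    intro x hx
    by_contra hn
    obtain ⟨c, rfl⟩ := exists_scalarSL hn
    apply hx
    rw [Subgroup.mem_center_iff]
    intro g
    apply Subtype.ext
    show sm g * ((c : F) • 1) = ((c : F) • 1) * sm g
    simp
  have hZ : ∀ x : SL2, NonScalar (sm x) → x ∉ Subgroup.center SL2 := by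
    intro x hx hc
    rw [CharDeep.OrderP.center_sl_two_eq_bot, Subgroup.mem_bot] at hc
    subst hc
    exact not_nonScalar_smul_one (1 : F) (by simpa [sm] using hx)
  have hidx : ∀ x : SL2, ∀ c : ℕ, Nat.card (cent x) = c →
      c * (cent x).index = Nat.card SL2 := fun x c h => h ▸ Subgroup.card_mul_index _
  obtain ⟨x, y, z, hx, hy, hz, hxc, hyc, hzc⟩ := exists_three (F := F) h4
  have hxi := hidx x _ hxc
  have hyi := hidx y _ hyc
  have hzi := hidx z _ hzc
  have hpos : ∀ w : SL2, 0 < (cent w).index := fun w =>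
    Nat.pos_of_ne_zero Subgroup.index_ne_zero_of_finite
  have hne1 : (cent x).index ≠ (cent y).index := fun e => by
    rw [← e] at hyi
    have := Nat.eq_of_mul_eq_mul_right (hpos x) (hxi.trans hyi.symm)
    omega
  have hne2 : (cent x).index ≠ (cent z).index := fun e => by
    rw [← e] at hzi
    have := Nat.eq_of_mul_eq_mul_right (hpos x) (hxi.trans hzi.symm)
    omega
  have hne3 : (cent y).index ≠ (cent z).index := fun e => by
    rw [← e] at hzi
    have := Nat.eq_of_mul_eq_mul_right (hpos y) (hyi.trans hzi.symm)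
    omega
  rw [Set.ncard_eq_three]
  refine ⟨_, _, _, hne1, hne2, hne3, ?_⟩
  ext m
  simp only [Set.mem_setOf_eq, Set.mem_insert_iff, Set.mem_singleton_iff]
  constructor
  · rintro ⟨w, hw, rfl⟩
    rcases card_cent_cases (hN w hw) with h | h | h
    · left
      exact Nat.eq_of_mul_eq_mul_left (by omega : 0 < q) ((hidx w _ h).trans hxi.symm)
    · right; left
      exact Nat.eq_of_mul_eq_mul_left (by omega : 0 < q + 1) ((hidx w _ h).trans hyi.symm)
    · right; right
      exact Nat.eq_of_mul_eq_mul_left (by omega : 0 < q - 1) ((hidx w _ h).trans hzi.symm)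
  · rintro (rfl | rfl | rfl)
    exacts [⟨x, hZ x hx, rfl⟩, ⟨y, hZ y hy, rfl⟩, ⟨z, hZ z hz, rfl⟩]

/-- The set of noncentral class sizes is invariant under isomorphisms. -/
theorem sizes_congr {G H : Type*} [Group G] [Group H] (e : G ≃* H) :
    {m : ℕ | ∃ x : G, x ∉ Subgroup.center G ∧
      m = (Subgroup.centralizer ({x} : Set G)).index} =
    {m : ℕ | ∃ x : H, x ∉ Subgroup.center H ∧
      m = (Subgroup.centralizer ({x} : Set H)).index} := by
  have key : ∀ {G H : Type _} [Group G] [Group H] (e : G ≃* H) (x : G),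
      (Subgroup.centralizer ({e x} : Set H)).index =
        (Subgroup.centralizer ({x} : Set G)).index ∧
      (e x ∈ Subgroup.center H ↔ x ∈ Subgroup.center G) := by
    intro G H _ _ e x
    have hm : Subgroup.centralizer ({e x} : Set H) =
        (Subgroup.centralizer ({x} : Set G)).map e.toMonoidHom := by
      ext y
      rw [Subgroup.mem_map_equiv, Subgroup.mem_centralizer_singleton_iff,
        Subgroup.mem_centralizer_singleton_iff, ← e.injective.eq_iff (a := e.symm y * x)]
      simp
    refine ⟨by rw [hm]; exact Subgroup.index_map_equiv (H := _) e, ?_⟩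
    rw [Subgroup.mem_center_iff, Subgroup.mem_center_iff, ← e.surjective.forall.symm]
    simp [← map_mul]
  ext m
  constructor
  · rintro ⟨x, hx, rfl⟩
    exact ⟨e x, fun h => hx ((key e x).2.1 h), (key e x).1.symm⟩
  · rintro ⟨y, hy, rfl⟩
    obtain ⟨x, rfl⟩ := e.surjective y
    exact ⟨x, fun h => hy ((key e x).2.2 h), (key e x).1⟩

end Cfsg.Agent.Ito7
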